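import Cfsg.Agent.UnfaithfulSub.Structure

/-!
The setting attached to a suborbit of a primitive group.
-/

set_option autoImplicit false

namespace Cfsg.Agent.UnfaithfulSub

open Equiv MulAction

theorem main {G Ω : Type*} [Group G] [Finite G] [MulAction G Ω] [FaithfulSMul G Ω] [Finite Ω]
    (hprim : MulAction.IsPreprimitive G Ω) (a b : Ω) (d : ℕ)
    (hd : Nat.card (orbit (stabilizer G a) b) = d) (h6 : 6 ≤ d)
    (halt : (toPermHom (stabilizer G a) (orbit (stabilizer G a) b)).range.index ≤ 2)
    (hunf : ¬ Function.Injective (toPermHom (stabilizer G a) (orbit (stabilizer G a) b))) :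
    ((toPermHom (stabilizer G a) (orbit (stabilizer G a) b)).range.index = 2 ∧
      Nonempty (stabilizer G a ≃* alternatingGroup (Fin d) × alternatingGroup (Fin (d - 1)))) ∨
    ((toPermHom (stabilizer G a) (orbit (stabilizer G a) b)).range = ⊤ ∧
      (Nonempty (stabilizer G a ≃* Perm (Fin d) × Perm (Fin (d - 1))) ∨
        Nonempty (stabilizer G a ≃* eqSign d (d - 1)))) := by
  classical
  have := hprim
  let α := ↥(orbit (stabilizer G a) b)
  let β := ↥(orbit (stabilizer G b) a)
  have : Fintype α := Fintype.ofFinite _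
  obtain ⟨g, hgb⟩ := exists_smul_eq G a b
  have hab : a ≠ b := by
    intro e
    have h1 : ∀ x : α, (x : Ω) = a := by
      rintro ⟨x, h, rfl⟩
      show (h : G) • b = a
      rw [← e]
      exact h.2
    have : Subsingleton α := ⟨fun x y => Subtype.ext ((h1 x).trans (h1 y).symm)⟩
    have hle : Nat.card α ≤ 1 := Finite.card_le_one_iff_subsingleton.mpr this
    rw [hd] at hle
    omega
  have : Nontrivial Ω := ⟨⟨a, b, hab⟩⟩
  have hconj : (stabilizer G a).map (MulAut.conj g).toMonoidHom = stabilizer G b := by
    rw [← hgb, stabilizer_smul_eq_stabilizer_map_conj]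
  have hmax : IsCoatom (stabilizer G a) := IsPreprimitive.isCoatom_stabilizer_of_isPreprimitive G a
  have hcard : Nat.card α = Nat.card β := by
    have hH : Nat.card (stabilizer G a) = Nat.card (stabilizer G b) := by
      rw [← hconj]
      exact Nat.card_congr ((stabilizer G a).equivMapOfInjective _ (MulAut.conj g).injective).toEquiv
    have hs : Nat.card (stabilizer (stabilizer G a) b) = Nat.card (stabilizer (stabilizer G b) a) :=
      Nat.card_congr
        { toFun := fun x => ⟨⟨(x : stabilizer G a), x.2⟩, (x : stabilizer G a).2⟩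
          invFun := fun x => ⟨⟨(x : stabilizer G b), x.2⟩, (x : stabilizer G b).2⟩
          left_inv := fun x => rfl
          right_inv := fun x => rfl }
    have h1 := (stabilizer (stabilizer G a) b).card_mul_index
    have h2 := (stabilizer (stabilizer G b) a).card_mul_index
    rw [index_stabilizer, ← Nat.card_coe_set_eq] at h1 h2
    rw [hH, ← h2, hs] at h1
    exact Nat.eq_of_mul_eq_mul_left Nat.card_pos h1
  let o : α := ⟨b, mem_orbit_self b⟩
  let o' : β := ⟨a, mem_orbit_self a⟩
  obtain ⟨e0⟩ := (Finite.card_eq (α := β) (β := α)).mp hcard.symm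
  let e : β ≃ α := e0.trans (swap (e0 o') o)
  have he : e o' = o := by simp [e]
  let π : stabilizer G a →* Perm α := toPermHom _ _
  let ρ : stabilizer G b →* Perm α := e.permCongrHom.toMonoidHom.comp (toPermHom _ β)
  have stabH : ∀ h : stabilizer G a, π h o = o ↔ (h : G) ∈ stabilizer G b := fun h =>
    ⟨fun hh => congrArg Subtype.val hh, fun hh => Subtype.ext hh⟩
  have stabK : ∀ k : stabilizer G b, ρ k o = o ↔ (k : G) ∈ stabilizer G a := fun k => by
    show e (k • e.symm o) = o ↔ _
    rw [← he, e.symm_apply_apply, e.apply_eq_iff_eq]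
    exact ⟨fun hh => congrArg Subtype.val hh, fun hh => Subtype.ext hh⟩
  have hbigH : Big π.range := big_of_index halt
  have hd' : Fintype.card α = d := by rw [← hd, Nat.card_eq_fintype_card]
  have hne : stabilizer G b ≠ stabilizer G a := by
    intro eq
    obtain ⟨x, hx⟩ : ∃ x, x ≠ o := Fintype.exists_ne_of_one_lt_card (by omega) o
    obtain ⟨σ, ⟨h, rfl⟩, hσ⟩ := hbigH.exists_apply (by omega) o x
    exact hx (hσ ▸ (stabH h).mpr (by rw [eq]; exact h.2))
  let c : Ctx G α :=
    { H := stabilizer G a
      K := stabilizer G b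
      π := π
      ρ := ρ
      o := o
      six := by omega
      stabH := stabH
      stabK := stabK
      bigH := hbigH
      bigK := big_of_paired (by omega) π ρ o stabH stabK hbigH ⟨g, hconj⟩
      conj := ⟨g, hconj⟩
      hbot := by
        intro N hNH hNK hH hK
        have hn : stabilizer G a ⊔ stabilizer G b ≤ Subgroup.normalizer (N : Set G) := by
          refine sup_le (fun y hy => ?_) (fun y hy => ?_)
          · refine Subgroup.mem_normalizer_iff.mpr fun n => ⟨hH y hy n, fun h => ?_⟩
            simpa [mul_assoc] using hH y⁻¹ (inv_mem hy) _ h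
          · refine Subgroup.mem_normalizer_iff.mpr fun n => ⟨hK y hy n, fun h => ?_⟩
            simpa [mul_assoc] using hK y⁻¹ (inv_mem hy) _ h
        have htop : stabilizer G a ⊔ stabilizer G b = ⊤ := by
          rcases hmax.le_iff.mp (le_sup_left : stabilizer G a ≤ stabilizer G a ⊔ stabilizer G b)
            with h | h
          · exact h
          · exfalso
            refine hne (Subgroup.eq_of_le_of_card_ge (le_sup_right.trans h.le) ?_)
            rw [← hconj]
            exact (Nat.card_congr ((stabilizer G a).equivMapOfInjective _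
              (MulAut.conj g).injective).toEquiv).le
        refine (Subgroup.eq_bot_iff_forall _).mpr fun n hn' => eq_of_smul_eq_smul fun x : Ω => ?_
        obtain ⟨y, rfl⟩ := exists_smul_eq G a x
        have h1 : y⁻¹ * n * y⁻¹⁻¹ ∈ N :=
          (Subgroup.mem_normalizer_iff.mp (hn (htop ▸ Subgroup.mem_top y⁻¹)) n).mp hn'
        have h2 : (y⁻¹ * n * y⁻¹⁻¹) • a = a := hNH h1
        rw [one_smul]
        simpa [mul_smul, inv_smul_eq_iff] using h2 }
  refine c.structure_H (fun h0 => hunf ?_) hd'
  rw [injective_iff_map_eq_one]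
  intro x hx
  exact Subtype.ext (Subgroup.mem_bot.mp (h0 ▸ (⟨x, hx, rfl⟩ : (x : G) ∈ c.A)))

end Cfsg.Agent.UnfaithfulSub
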