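import Cfsg.Agent.UnfaithfulSub.Ctx

/-!
The intersection of the kernels of two adjacent point stabilisers is trivial.
-/

set_option autoImplicit false

namespace Cfsg.Agent.UnfaithfulSub

open Equiv Subgroup

variable {G : Type*} [Group G] {α : Type*} [Fintype α] [DecidableEq α]

/-- The layer of a subgroup, inside `G`. -/
def lay (S : Subgroup G) : Subgroup G := (Cfsg.layer S).map S.subtype

theorem inv_lay [Finite G] {M S : Subgroup G} (hS : Inv M S) : Inv M (lay S) := by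
  intro m hm
  rintro _ ⟨x, hx, rfl⟩
  let e : S ≃* S :=
    { toFun := fun y => ⟨m * y * m⁻¹, hS m hm y y.2⟩
      invFun := fun y => ⟨m⁻¹ * y * m, by simpa using hS m⁻¹ (inv_mem hm) y y.2⟩
      left_inv := fun y => Subtype.ext (by simp [mul_assoc])
      right_inv := fun y => Subtype.ext (by simp [mul_assoc])
      map_mul' := fun y z => Subtype.ext (by simp [mul_assoc]) }
  refine ⟨e x, ?_, rfl⟩
  have h : e x ∈ (Cfsg.layer S).map e.toMonoidHom := ⟨x, hx, rfl⟩
  rwa [Layer.map_layer_equiv] at h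

namespace Ctx

variable (c : Ctx G α)

theorem lay_A_eq [Finite G] (h : c.A ⊓ centralizer (c.W : Set G) = ⊥) : lay c.A = lay c.W := by
  have hWA : c.W ≤ c.A := inf_le_left
  have hn : (c.W.subgroupOf c.A).Normal := (c.W_inv.mono c.A_le_T).subgroupOf_normal
  have hle : Cfsg.layer c.A ≤ c.W.subgroupOf c.A := by
    refine sSup_le fun L hL => ?_
    refine (Layer.component_le_or_commute hL hn.isSubnormal).resolve_right fun hc => ?_
    refine Layer.qs_subgroup_ne_bot hL.2 ((eq_bot_iff_forall _).mpr fun l hl => Subtype.ext ?_)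
    refine Subgroup.mem_bot.mp (h ▸ ⟨l.2, mem_centralizer_iff.mpr fun w hw => ?_⟩)
    exact (congrArg Subtype.val (Layer.commute_of_commutator_eq_bot hc hl
      (show (⟨w, hWA hw⟩ : c.A) ∈ c.W.subgroupOf c.A from hw))).symm
  let e : ↥(c.W.subgroupOf c.A) ≃* c.W := Subgroup.subgroupOfEquivOfLe hWA
  have he : ∀ x, ((e x : c.W) : G) = ((x : c.A) : G) := fun x => rfl
  refine le_antisymm ?_ ?_
  · rintro _ ⟨x, hx, rfl⟩
    obtain ⟨y, hy, rfl⟩ := Layer.layer_of_subgroup_containing hle hx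
    exact ⟨e y, Layer.map_layer_equiv e ▸ ⟨y, hy, rfl⟩, rfl⟩
  · rintro _ ⟨x, hx, rfl⟩
    rw [← Layer.map_layer_equiv e] at hx
    obtain ⟨y, hy, rfl⟩ := hx
    exact ⟨y, Layer.map_layer_subnormal_le hn.isSubnormal ⟨y, hy, rfl⟩, rfl⟩

theorem centralizer_ne_bot [Finite G] (hA : c.A ≠ ⊥)
    (hCA : c.A ⊓ centralizer (c.W : Set G) = ⊥) : c.B ⊓ centralizer (c.W : Set G) ≠ ⊥ := by
  intro hCB
  have h1 := c.lay_A_eq hCA
  have h2 : lay c.B = lay c.W := by
    have := c.swap.lay_A_eq (by rwa [c.W_swap])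
    rwa [c.W_swap] at this
  have hH : Inv c.H (lay c.A) := inv_lay c.A_inv
  have hK : Inv c.K (lay c.A) := by
    rw [h1, ← h2]
    exact inv_lay c.B_inv
  have hbot : lay c.A = ⊥ :=
    c.hbot _ ((map_subtype_le _).trans c.A_le_H)
      (((map_subtype_le _).trans c.A_le_T).trans c.T_le') hH hK
  have hlay : Cfsg.layer c.A = ⊥ := (Subgroup.map_eq_bot_iff_of_injective _
    c.A.subtype_injective).mp hbot
  have hfit : Cfsg.fittingSubgroup c.A = ⊥ := by
    refine le_bot_iff.mp (sSup_le fun N hN => ?_)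
    obtain ⟨hNn, hNnil⟩ := hN
    have : Group.IsSolvable N := inferInstance
    refine le_of_eq ((Subgroup.map_eq_bot_iff_of_injective _ c.A.subtype_injective).mp ?_)
    refine c.eq_bot_of_solvable ((map_subtype_le _).trans c.A_le_H) ?_ (Core.isSolvable_map this _)
    exact isSubnormal_trans (map_subtype_le _) c.A_le_H (inv_map_normal N) c.A_inv
  have : Nontrivial c.A := (Subgroup.nontrivial_iff_ne_bot _).mpr hA
  refine Layer.generalizedFitting_ne_bot (G := c.A) ?_
  rw [Cfsg.generalizedFittingSubgroup, hlay, hfit, bot_sup_eq]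

/-- If `B` does not act faithfully on `W`, then `W` is normal in `H`. -/
theorem W_inv_H [Finite G] (hCB : c.B ⊓ centralizer (c.W : Set G) ≠ ⊥) : Inv c.H c.W := by
  set CB := c.B ⊓ centralizer (c.W : Set G) with hCBdef
  have hWA : c.W ≤ c.A := inf_le_left
  have hCBinv : Inv c.T CB := (c.B_inv.mono c.T_le').inf c.W_inv.centralizer
  have hCBT : CB ≤ c.T := inf_le_left.trans c.B_le_T
  have hbig : Big (c.imgT CB) := c.big_imgT hCBinv hCBT fun hle => hCB (le_bot_iff.mp
    fun x hx => c.W_inf_centralizer.le ⟨⟨hle hx, hx.1⟩, hx.2⟩)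
  -- membership in a conjugate of `W` does not depend on the conjugating element outside `K`
  have indep : ∀ w ∈ c.W, ∀ h h' : c.H, (h : G) ∉ c.K → (h' : G) ∉ c.K →
      (h : G)⁻¹ * w * h ∈ c.W → (h' : G)⁻¹ * w * h' ∈ c.W := by
    intro w hw h h' hh hh' hmem
    obtain ⟨σ, ⟨u, hu, rfl⟩, hσ⟩ := hbig.exists_apply (by have := c.five'; omega)
      (⟨c.π h c.o, fun e => hh ((c.stabH h).mp e)⟩ : {x : α // x ≠ c.o})
      ⟨c.π h' c.o, fun e => hh' ((c.stabH h').mp e)⟩
    have h1 : c.π ⟨u, u.2.1⟩ (c.π h c.o) = c.π h' c.o := by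
      have := congrArg Subtype.val hσ
      rwa [coe_πT] at this
    have ht : (((h'⁻¹ * ⟨u, u.2.1⟩ * h : c.H) : G)) ∈ c.T := by
      refine ⟨SetLike.coe_mem _, (c.stabH _).mp ?_⟩
      rw [map_mul, map_mul, Equiv.Perm.mul_apply, Equiv.Perm.mul_apply, h1, map_inv]
      exact Equiv.symm_apply_apply _ _
    have h2 : (u : G) * w = w * u := (mem_centralizer_iff.mp hu.2 w hw).symm
    have h3 := c.W_inv _ ht _ hmem
    have e : (((h'⁻¹ * ⟨u, u.2.1⟩ * h : c.H) : G)) * ((h : G)⁻¹ * w * h) *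
        (((h'⁻¹ * ⟨u, u.2.1⟩ * h : c.H) : G))⁻¹ = (h' : G)⁻¹ * w * h' := by
      simp only [Subgroup.coe_mul, Subgroup.coe_inv]
      calc (h' : G)⁻¹ * u * h * ((h : G)⁻¹ * w * h) * ((h' : G)⁻¹ * u * h)⁻¹
          = (h' : G)⁻¹ * ((u : G) * w * (u : G)⁻¹) * h' := by group
        _ = (h' : G)⁻¹ * w * h' := by rw [h2, mul_inv_cancel_right]
    rwa [e] at h3
  obtain ⟨h1, hh1⟩ := c.exists_not_mem
  -- it is enough that `W` lies in one other conjugate of itself
  suffices hkey : ∀ w ∈ c.W, (h1 : G)⁻¹ * w * h1 ∈ c.W by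
    intro h hh w hw
    by_cases hK : h ∈ c.K
    · exact c.W_inv h ⟨hh, hK⟩ w hw
    · have := indep w hw h1 ⟨h⁻¹, inv_mem hh⟩ hh1 (fun e => hK (by simpa using inv_mem e))
        (hkey w hw)
      simpa using this
  obtain ⟨h2, hne0, hne1⟩ : ∃ h2 : c.H, (h2 : G) ∉ c.K ∧ (((h2⁻¹ * h1 : c.H)) : G) ∉ c.K := by
    obtain ⟨y, hy⟩ : ∃ y, y ∉ ({c.o, c.π h1 c.o} : Finset α) := by
      by_contra hc
      push Not at hc
      have h := Finset.card_le_card (fun a _ => hc a : (Finset.univ : Finset α) ⊆ _)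
      rw [Finset.card_univ] at h
      have := Finset.card_le_two (a := c.o) (b := c.π h1 c.o)
      have := c.six
      omega
    simp only [Finset.mem_insert, Finset.mem_singleton, not_or] at hy
    obtain ⟨h2, hh2⟩ := c.exists_apply c.o y
    refine ⟨h2, fun e => hy.1 (hh2 ▸ (c.stabH h2).mpr e), fun e => hy.2 ?_⟩
    have := (c.stabH _).mpr e
    rw [map_mul, Equiv.Perm.mul_apply, map_inv, Equiv.Perm.inv_def, Equiv.symm_apply_eq] at this
    rw [← hh2, this]
  let φ : c.A →* Perm {x : α // x ≠ c.swap.o} := c.swap.πT.comp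
    { toFun := fun a => ⟨(h1 : G)⁻¹ * a * h1, c.T_swap.ge (c.A_le_T (by
        simpa using c.A_inv (h1 : G)⁻¹ (inv_mem h1.2) a a.2))⟩
      map_one' := Subtype.ext (by simp)
      map_mul' := fun a b => Subtype.ext (by simp [mul_assoc]) }
  have hφker : ∀ a : c.A, φ a = 1 → (h1 : G)⁻¹ * a * h1 ∈ c.W := by
    intro a ha
    exact ⟨by simpa using c.A_inv (h1 : G)⁻¹ (inv_mem h1.2) a a.2, c.swap.πT_eq_one.mp ha⟩
  have hrange : φ.range = ⊥ ∨ Big φ.range := by
    refine eq_bot_or_big c.swap.five' c.swap.bigT ?_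
    rintro _ ⟨s, rfl⟩ _ ⟨a, rfl⟩
    have hs : (s : G) ∈ c.T := c.T_swap.le s.2
    have hmem : (h1 : G) * (s * ((h1 : G)⁻¹ * a * h1) * (s : G)⁻¹) * (h1 : G)⁻¹ ∈ c.A :=
      c.A_inv _ h1.2 _ (c.A_inv _ hs.1 _ (by
        simpa using c.A_inv (h1 : G)⁻¹ (inv_mem h1.2) a a.2))
    refine ⟨⟨_, hmem⟩, ?_⟩
    show c.swap.πT _ = c.swap.πT s * c.swap.πT _ * (c.swap.πT s)⁻¹
    rw [← map_mul, ← map_inv, ← map_mul]
    congr 1
    exact Subtype.ext (by simp [mul_assoc])
  rcases hrange with e | hΦ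
  · intro w hw
    exact hφker ⟨w, hWA hw⟩ (Subgroup.mem_bot.mp (e ▸ ⟨⟨w, hWA hw⟩, rfl⟩))
  let W' : Subgroup G := c.W.map (MulAut.conj (h2 : G)).toMonoidHom
  have hW'A : W' ≤ c.A := by
    rintro _ ⟨w, hw, rfl⟩
    simpa using c.A_inv _ h2.2 w (hWA hw)
  have hW'inv : Inv c.A W' := by
    rintro a ha _ ⟨w, hw, rfl⟩
    refine ⟨((h2 : G)⁻¹ * a * h2) * w * ((h2 : G)⁻¹ * a * h2)⁻¹, ?_, by simp [mul_assoc]⟩
    exact c.W_inv _ (c.A_le_T (by simpa using c.A_inv (h2 : G)⁻¹ (inv_mem h2.2) a ha)) _ hw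
  have himg : ∀ N : Subgroup G, Inv c.A N →
      (N.subgroupOf c.A).map φ = ⊥ ∨ Big ((N.subgroupOf c.A).map φ) := by
    intro N hN
    refine eq_bot_or_big c.swap.five' hΦ ?_
    rintro _ ⟨a, rfl⟩ _ ⟨n, hn, rfl⟩
    exact ⟨a * n * a⁻¹, hN a a.2 n hn, by simp⟩
  rcases himg c.W (c.W_inv.mono c.A_le_T) with e | hWbig
  · intro w hw
    exact hφker ⟨w, hWA hw⟩ (Subgroup.mem_bot.mp (e ▸ ⟨⟨w, hWA hw⟩, hw, rfl⟩))
  rcases himg W' hW'inv with e | hW'big
  · intro w hw
    have hv : (h2 : G) * w * (h2 : G)⁻¹ ∈ W' := ⟨w, hw, by simp⟩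
    have h3 := hφker ⟨_, hW'A hv⟩ (Subgroup.mem_bot.mp (e ▸ ⟨⟨_, hW'A hv⟩, hv, rfl⟩))
    exact indep w hw (h2⁻¹ * h1) h1 hne1 hh1 (by simpa [mul_assoc] using h3)
  exfalso
  refine hWbig.not_commute c.swap.five' hW'big ?_
  rintro _ ⟨u, hu, rfl⟩ _ ⟨v, hv, rfl⟩
  have hz1 : (u : G) * v * (u : G)⁻¹ * (v : G)⁻¹ ∈ c.W := by
    have e1 : (u : G) * v * (u : G)⁻¹ * (v : G)⁻¹ = u * ((v : G) * (u : G)⁻¹ * (v : G)⁻¹) := by group
    rw [e1]
    exact mul_mem hu (c.W_inv _ (c.A_le_T v.2) _ (inv_mem hu))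
  have hz2 : (u : G) * v * (u : G)⁻¹ * (v : G)⁻¹ ∈ W' :=
    mul_mem (hW'inv _ u.2 _ hv) (inv_mem hv)
  obtain ⟨z, hz, hze⟩ := hz2
  have hm : (h2 : G)⁻¹ * ((u : G) * v * (u : G)⁻¹ * (v : G)⁻¹) * h2 ∈ c.W := by
    rw [← hze]
    simpa [mul_assoc] using hz
  have hm1 := indep _ hz1 h2 h1 hne0 hh1 hm
  have hk : φ (u * v * u⁻¹ * v⁻¹) = 1 := c.swap.πT_eq_one.mpr hm1.2
  rw [map_mul, map_mul, map_mul, map_inv, map_inv, mul_inv_eq_one, mul_inv_eq_iff_eq_mul] at hk
  exact hk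

/-- A `T`-invariant subgroup centralised by a transitive subgroup of `H` is `H`-invariant. -/
theorem inv_of_transitive {N : Subgroup G} (hN : Inv c.T N) {C : Subgroup G}
    (hC : ∀ x ∈ C, ∀ n ∈ N, x * n = n * x) (_hCH : C ≤ c.H) (hbig : Big (c.imgH C)) :
    Inv c.H N := by
  intro h hh n hn
  obtain ⟨σ, ⟨x, hx, rfl⟩, hσ⟩ := hbig.exists_apply (by have := c.six; omega) c.o (c.π ⟨h, hh⟩ c.o)
  have ht : ((x⁻¹ * ⟨h, hh⟩ : c.H) : G) ∈ c.T := by
    refine ⟨SetLike.coe_mem _, (c.stabH _).mp ?_⟩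
    rw [map_mul, Equiv.Perm.mul_apply, ← hσ, map_inv]
    exact Equiv.symm_apply_apply _ _
  have h1 := hN _ ht n hn
  simp only [Subgroup.coe_mul, Subgroup.coe_inv] at h1
  have h2 : (x : G) * ((x : G)⁻¹ * h * n * ((x : G)⁻¹ * h)⁻¹) =
      (x : G)⁻¹ * h * n * ((x : G)⁻¹ * h)⁻¹ * x := hC _ hx _ h1
  have e : h * n * h⁻¹ = (x : G) * ((x : G)⁻¹ * h * n * ((x : G)⁻¹ * h)⁻¹) * (x : G)⁻¹ := by group
  rw [e, h2, mul_inv_cancel_right]
  exact h1

set_option maxHeartbeats 1000000 in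
theorem W_eq_bot_of_centralizer [Finite G] (hCB : c.B ⊓ centralizer (c.W : Set G) ≠ ⊥) :
    c.W = ⊥ := by
  have hWH := c.W_inv_H hCB
  by_cases hCA : c.A ⊓ centralizer (c.W : Set G) = ⊥
  swap
  · have hWK : Inv c.K c.W := by
      have := c.swap.W_inv_H (by rw [c.W_swap]; exact hCA)
      rwa [c.W_swap] at this
    exact c.hbot _ (c.W_le_T.trans c.T_le) (c.W_le_T.trans c.T_le') hWH hWK
  have hWA : c.W ≤ c.A := inf_le_left
  set D := c.H ⊓ centralizer (c.W : Set G) with hD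
  have hHH : Inv c.H c.H := fun s hs n hn => mul_mem (mul_mem hs hn) (inv_mem hs)
  have hDinv : Inv c.H D := hHH.inf hWH.centralizer
  have hDA : D ⊓ c.A = ⊥ :=
    le_bot_iff.mp fun x hx => hCA.le ⟨hx.2, hx.1.2⟩
  have hCBD : c.B ⊓ centralizer (c.W : Set G) ≤ D :=
    le_inf (inf_le_left.trans (c.B_le_T.trans c.T_le)) inf_le_right
  have hDbig : Big (c.imgH D) := by
    refine c.big_imgH hDinv inf_le_left fun hle => hCB (le_bot_iff.mp fun x hx => ?_)
    exact hDA.le ⟨hCBD hx, hle (hCBD hx)⟩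
  -- the largest subgroup of `W` normal in `K` is trivial
  have hV : ∀ w ∈ c.W, (∀ k ∈ c.K, k * w * k⁻¹ ∈ c.W) → w = 1 := by
    let V : Subgroup G :=
      { carrier := {w | ∀ k ∈ c.K, k * w * k⁻¹ ∈ c.W}
        one_mem' := fun k _ => by simp
        mul_mem' := fun {u v} hu hv k hk => by
          simpa [mul_assoc] using mul_mem (hu k hk) (hv k hk)
        inv_mem' := fun {u} hu k hk => by simpa [mul_assoc] using inv_mem (hu k hk) }
    have hVW : V ≤ c.W := fun w hw => by simpa using hw 1 (one_mem _)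
    have hVK : Inv c.K V := fun k hk w hw k' hk' => by
      simpa [mul_assoc] using hw (k' * k) (mul_mem hk' hk)
    have hVH : Inv c.H V := c.inv_of_transitive (C := D) (hVK.mono c.T_le')
      (fun x hx n hn => (mem_centralizer_iff.mp hx.2 n (hVW hn)).symm) inf_le_left hDbig
    have h0 := c.hbot V ((hVW.trans c.W_le_T).trans c.T_le) ((hVW.trans c.W_le_T).trans c.T_le')
      hVH hVK
    exact fun w _ hk => Subgroup.mem_bot.mp (h0 ▸ (hk : w ∈ V))
  obtain ⟨g, hg⟩ := c.conj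
  let e : G ≃* G := MulAut.conj g
  have heK : ∀ x ∈ c.H, e x ∈ c.K := fun x hx => hg ▸ ⟨x, hx, rfl⟩
  have hKe : ∀ k ∈ c.K, ∃ h ∈ c.H, e h = k := fun k hk => by
    obtain ⟨h, hh, hk'⟩ := hg.ge hk
    exact ⟨h, hh, hk'⟩
  let D' : Subgroup G := D.map e.toMonoidHom
  have hD'K : D' ≤ c.K := by
    rintro _ ⟨x, hx, rfl⟩
    exact heK x hx.1
  have hD'inv : Inv c.K D' := by
    rintro k hk _ ⟨x, hx, rfl⟩
    obtain ⟨h, hh, rfl⟩ := hKe k hk
    exact ⟨h * x * h⁻¹, hDinv h hh x hx, by simp⟩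
  -- `D'` meets the kernel `B` trivially
  set E := D' ⊓ c.B with hE
  have hEinv : Inv c.K E := hD'inv.inf c.B_inv
  have hE0 : E = ⊥ := by
    set E0 := E.comap e.toMonoidHom with hE0def
    have hE0D : E0 ≤ D := fun x hx => by
      obtain ⟨y, hy, hyx⟩ := hx.1
      exact e.injective hyx ▸ hy
    have hE0inv : Inv c.H E0 := fun h hh x hx => by
      show e (h * x * h⁻¹) ∈ E
      rw [map_mul, map_mul, map_inv]
      exact hEinv _ (heK h hh) _ hx
    have hmap : E0.map e.toMonoidHom = E := Subgroup.map_comap_eq_self_of_surjective e.surjective _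
    have hcard : Nat.card E0 = Nat.card E := by
      rw [← hmap]
      exact Nat.card_congr (E0.equivMapOfInjective _ e.injective).toEquiv
    have hpre : ∀ N : Subgroup G, N ≤ D →
        Nat.card (c.imgH N) = Nat.card N := fun N hN => by
      have hinj : Function.Injective (c.π.comp (N.subgroupOf c.H).subtype) := by
        rw [injective_iff_map_eq_one]
        intro x hx
        exact Subtype.ext (Subtype.ext (Subgroup.mem_bot.mp (hDA ▸
          ⟨hN x.2, c.mem_A.mpr ⟨x.1.2, hx⟩⟩)))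
      rw [imgH, ← Subgroup.range_subtype (N.subgroupOf c.H), ← MonoidHom.range_comp]
      exact (Nat.card_congr (MonoidHom.ofInjective hinj).toEquiv).symm.trans
        (Nat.card_congr (Subgroup.subgroupOfEquivOfLe (hN.trans inf_le_left)).toEquiv)
    rcases c.imgH_cases hE0inv with h0 | h0
    · have : E0 = ⊥ := le_bot_iff.mp fun x hx =>
        hDA.le ⟨hE0D hx, c.le_A_of_imgH (hE0D.trans inf_le_left) h0 hx⟩
      rw [← hmap, this, Subgroup.map_bot]
    have hlarge : (Fintype.card α).factorial ≤ 2 * Nat.card E := by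
      rw [← hcard, ← hpre E0 hE0D]
      exact h0.card_le (by have := c.six; omega)
    have hsmall : Nat.card E ≤ (Fintype.card α).factorial := by
      rw [← hcard, ← hpre E0 hE0D, ← card_perm_eq]
      exact Subgroup.card_le_card_group _
    have hker : ∀ k ∈ c.K, ∀ x ∈ E, k * x * k⁻¹ ∈ c.A := by
      intro k hk x hx
      have hEB : E ≤ c.B := inf_le_right
      let f : E →* Perm {x : α // x ≠ c.o} := c.πT.comp
        { toFun := fun y => ⟨k * y * k⁻¹, c.B_le_T (hEB (hEinv k hk y y.2))⟩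
          map_one' := Subtype.ext (by simp)
          map_mul' := fun a b => Subtype.ext (by simp [mul_assoc]) }
      have hr : f.range = c.imgT E := by
        ext σ
        constructor
        · rintro ⟨y, rfl⟩
          exact ⟨_, hEinv k hk y y.2, rfl⟩
        · rintro ⟨y, hy, rfl⟩
          exact ⟨⟨k⁻¹ * (y : G) * k, by simpa using hEinv k⁻¹ (inv_mem hk) y hy⟩,
            congrArg c.πT (Subtype.ext (by simp [mul_assoc]))⟩
      rcases c.imgT_cases (hEinv.mono c.T_le') with h1 | h1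
      · have : f ⟨x, hx⟩ ∈ c.imgT E := hr ▸ ⟨_, rfl⟩
        rw [h1] at this
        exact c.πT_eq_one.mp (Subgroup.mem_bot.mp this)
      exfalso
      let F : Subgroup G := (f.ker.map E.subtype).comap e.toMonoidHom
      have hFE0 : F ≤ E0 := fun y hy => by
        obtain ⟨z, _, hz⟩ := hy
        show e y ∈ E
        exact hz ▸ z.2
      have hFinv : Inv E0 F := fun s hs y hy => by
        obtain ⟨z, hz, hzy⟩ := hy
        refine ⟨⟨e s, hs⟩ * z * ⟨e s, hs⟩⁻¹, (MonoidHom.normal_ker f).conj_mem z hz _, ?_⟩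
        simp only [MulEquiv.coe_toMonoidHom, map_mul, map_inv, Subgroup.coe_subtype] at hzy ⊢
        rw [hzy]
      have hFcard : Nat.card F = Nat.card f.ker := by
        have hmapF : F.map e.toMonoidHom = f.ker.map E.subtype :=
          Subgroup.map_comap_eq_self_of_surjective e.surjective _
        rw [Nat.card_congr (F.equivMapOfInjective e.toMonoidHom e.injective).toEquiv, hmapF]
        exact (Nat.card_congr (f.ker.equivMapOfInjective _ E.subtype_injective).toEquiv).symm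
      have hmul : Nat.card f.ker * Nat.card f.range = Nat.card E := by
        rw [← Subgroup.index_ker, Subgroup.card_mul_index]
      have hF : c.imgH F = ⊥ ∨ Big (c.imgH F) := by
        refine eq_bot_or_big c.five h0 ?_
        rintro _ ⟨s, hs, rfl⟩ _ ⟨y, hy, rfl⟩
        exact ⟨s * y * s⁻¹, hFinv _ hs _ hy, by simp⟩
      have hcardβ : Fintype.card {x : α // x ≠ c.o} + 1 = Fintype.card α := by
        have := c.six
        simp only [ne_eq, Fintype.card_subtype_compl, Fintype.card_unique]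
        omega
      rw [← hcardβ, Nat.factorial_succ] at hlarge hsmall
      have hβ := c.five'
      have hfac : 120 ≤ (Fintype.card {x : α // x ≠ c.o}).factorial :=
        (by decide : 120 ≤ Nat.factorial 5).trans (Nat.factorial_le hβ)
      have hrle : Nat.card f.range ≤ (Fintype.card {x : α // x ≠ c.o}).factorial := by
        rw [← card_perm_eq]
        exact Subgroup.card_le_card_group _
      rcases hF with h2 | h2
      · have : F = ⊥ := le_bot_iff.mp fun y hy => hDA.le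
          ⟨hE0D (hFE0 hy), c.le_A_of_imgH (hFE0.trans (hE0D.trans inf_le_left)) h2 hy⟩
        rw [this, Subgroup.card_bot] at hFcard
        rw [← hFcard, one_mul] at hmul
        nlinarith
      · have h3 : (Fintype.card α).factorial ≤ 2 * Nat.card F := by
          rw [← hpre F (hFE0.trans hE0D)]
          exact h2.card_le (by have := c.six; omega)
        rw [← hcardβ, Nat.factorial_succ, hFcard] at h3
        have h4 := (hr ▸ h1 : Big f.range).card_le (by omega)
        nlinarith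
    refine (eq_bot_iff_forall _).mpr fun x hx => ?_
    refine hV x ?_ fun k hk => ⟨hker k hk x hx, c.B_inv k hk x hx.2⟩
    exact ⟨by simpa using hker 1 (one_mem _) x hx, hx.2⟩
  have hD'comm : ∀ x ∈ D', ∀ n ∈ c.W, x * n = n * x := by
    intro x hx n hn
    have h1 : x * n * x⁻¹ * n⁻¹ ∈ E := by
      refine Subgroup.mem_inf.mpr ⟨?_, mul_mem (c.B_inv x (hD'K hx) n hn.2)
        (inv_mem (show n ∈ c.B from hn.2))⟩
      have e1 : x * n * x⁻¹ * n⁻¹ = x * (n * x⁻¹ * n⁻¹) := by group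
      rw [e1]
      exact mul_mem hx (hD'inv n (c.T_le' (c.W_le_T hn)) _ (inv_mem hx))
    rw [hE0, Subgroup.mem_bot, mul_inv_eq_one, mul_inv_eq_iff_eq_mul] at h1
    exact h1
  have hD'big : Big (c.swap.imgH D') := by
    refine c.swap.big_imgH hD'inv hD'K fun hle => ?_
    have h1 : D' = ⊥ := le_bot_iff.mp fun x hx => hE0.le ⟨hx, hle hx⟩
    have h2 : D = ⊥ := (Subgroup.map_eq_bot_iff_of_injective _ e.injective).mp h1
    exact hCB (le_bot_iff.mp (h2 ▸ hCBD))
  have hWK : Inv c.K c.W :=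
    c.swap.inv_of_transitive (C := D') (N := c.W) (by rw [c.T_swap]; exact c.W_inv) hD'comm hD'K hD'big
  exact c.hbot _ (c.W_le_T.trans c.T_le) (c.W_le_T.trans c.T_le') hWH hWK

/-- The two kernels meet trivially. -/
theorem W_eq_bot [Finite G] (hA : c.A ≠ ⊥) : c.W = ⊥ := by
  by_cases hCA : c.A ⊓ centralizer (c.W : Set G) = ⊥
  · exact c.W_eq_bot_of_centralizer (c.centralizer_ne_bot hA hCA)
  · have h := c.swap.W_eq_bot_of_centralizer (by rw [c.W_swap]; exact hCA)
    rwa [c.W_swap] at h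

end Ctx

end Cfsg.Agent.UnfaithfulSub
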