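import Cfsg.Agent.UnfaithfulSub.Full
import Cfsg.Agent.Layer.FStar

/-!
Setting for two adjacent point stabilisers with big constituents, and the triviality of their
solvable radical.
-/

set_option autoImplicit false

namespace Cfsg.Agent.UnfaithfulSub

open Equiv Subgroup

variable {G : Type*} [Group G] {α : Type*} [Fintype α] [DecidableEq α]

/-- `S` normalises `N` (stated elementwise). -/
def Inv (S N : Subgroup G) : Prop := ∀ s ∈ S, ∀ n ∈ N, s * n * s⁻¹ ∈ N

theorem Inv.mono {S S' N : Subgroup G} (h : Inv S N) (h' : S' ≤ S) : Inv S' N :=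
  fun s hs => h s (h' hs)

theorem Inv.inf {S N N' : Subgroup G} (h : Inv S N) (h' : Inv S N') : Inv S (N ⊓ N') :=
  fun s hs n hn => ⟨h s hs n hn.1, h' s hs n hn.2⟩

theorem Inv.centralizer {S N : Subgroup G} (h : Inv S N) :
    Inv S (Subgroup.centralizer (N : Set G)) := by
  intro s hs c hc
  rw [mem_centralizer_iff] at hc ⊢
  intro n hn
  have h1 := hc _ (h s⁻¹ (inv_mem hs) n hn)
  rw [inv_inv] at h1
  calc n * (s * c * s⁻¹) = s * (s⁻¹ * n * s * c) * s⁻¹ := by group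
    _ = s * (c * (s⁻¹ * n * s)) * s⁻¹ := by rw [h1]
    _ = s * c * s⁻¹ * n := by group

theorem Inv.subgroupOf_normal {S N : Subgroup G} (h : Inv S N) : (N.subgroupOf S).Normal :=
  ⟨fun n hn s => h s s.2 n hn⟩

theorem inv_map_normal {S : Subgroup G} (N : Subgroup S) [hN : N.Normal] :
    Inv S (N.map S.subtype) := by
  rintro s hs _ ⟨n, hn, rfl⟩
  exact ⟨⟨s, hs⟩ * n * ⟨s, hs⟩⁻¹, hN.conj_mem n hn _, rfl⟩

theorem isSubnormal_trans {M B X : Subgroup G} (hX : X ≤ B) (_hB : B ≤ M)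
    (hXB : Inv B X) (hBM : Inv M B) : (X.subgroupOf M).IsSubnormal := by
  have := hBM.subgroupOf_normal
  refine Subgroup.IsSubnormal.trans (K := B.subgroupOf M) (fun x hx => hX hx) ?_
    (Subgroup.Normal.isSubnormal this)
  refine Subgroup.Normal.isSubnormal ⟨fun n hn s => ?_⟩
  exact hXB ((s : M) : G) s.2 ((n : M) : G) hn

/-- Two adjacent point stabilisers `H`, `K`, with their actions `π`, `ρ` on `α`. -/
structure Ctx (G : Type*) [Group G] (α : Type*) [Fintype α] [DecidableEq α] where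
  H : Subgroup G
  K : Subgroup G
  π : H →* Perm α
  ρ : K →* Perm α
  o : α
  six : 6 ≤ Fintype.card α
  stabH : ∀ h : H, π h o = o ↔ (h : G) ∈ K
  stabK : ∀ k : K, ρ k o = o ↔ (k : G) ∈ H
  bigH : Big π.range
  bigK : Big ρ.range
  conj : ∃ g : G, H.map (MulAut.conj g).toMonoidHom = K
  hbot : ∀ N : Subgroup G, N ≤ H → N ≤ K → Inv H N → Inv K N → N = ⊥

namespace Ctx

variable (c : Ctx G α)

/-- The same setting seen from the other end. -/
def swap : Ctx G α where
  H := c.K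
  K := c.H
  π := c.ρ
  ρ := c.π
  o := c.o
  six := c.six
  stabH := c.stabK
  stabK := c.stabH
  bigH := c.bigK
  bigK := c.bigH
  conj := by
    obtain ⟨g, hg⟩ := c.conj
    refine ⟨g⁻¹, ?_⟩
    rw [← hg]
    ext x
    constructor
    · rintro ⟨y, ⟨z, hz, rfl⟩, rfl⟩
      simpa [mul_assoc] using hz
    · intro hx
      exact ⟨g * x * g⁻¹, ⟨x, hx, rfl⟩, by simp [mul_assoc]⟩
  hbot := fun N h1 h2 h3 h4 => c.hbot N h2 h1 h4 h3

theorem five (c : Ctx G α) : 5 ≤ Fintype.card α := by have := c.six; omega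

theorem five' : 5 ≤ Fintype.card {x : α // x ≠ c.o} := by
  have := c.six
  simp only [ne_eq, Fintype.card_subtype_compl, Fintype.card_unique]
  omega

/-- The two-point stabiliser. -/
abbrev T : Subgroup G := c.H ⊓ c.K

theorem T_le : c.T ≤ c.H := inf_le_left

theorem T_le' : c.T ≤ c.K := inf_le_right

theorem T_swap : c.swap.T = c.T := inf_comm _ _

/-- The kernel of `H` on `α`. -/
def A : Subgroup G := c.π.ker.map c.H.subtype

/-- The kernel of `K` on `α`. -/
abbrev B : Subgroup G := c.swap.A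

/-- The intersection of the two kernels. -/
def W : Subgroup G := c.A ⊓ c.B

theorem mem_A {x : G} : x ∈ c.A ↔ ∃ hx : x ∈ c.H, c.π ⟨x, hx⟩ = 1 := by
  constructor
  · rintro ⟨y, hy, rfl⟩
    exact ⟨y.2, hy⟩
  · rintro ⟨hx, h⟩
    exact ⟨⟨x, hx⟩, h, rfl⟩

theorem A_le_H : c.A ≤ c.H := map_subtype_le _

theorem A_le_T : c.A ≤ c.T := by
  intro x hx
  obtain ⟨hH, h⟩ := c.mem_A.mp hx
  refine ⟨hH, (c.stabH ⟨x, hH⟩).mp ?_⟩
  rw [h]
  rfl

theorem B_le_T : c.B ≤ c.T := c.swap.A_le_T.trans c.T_swap.le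

theorem W_le_T : c.W ≤ c.T := inf_le_left.trans c.A_le_T

theorem A_inv : Inv c.H c.A := inv_map_normal _

theorem B_inv : Inv c.K c.B := c.swap.A_inv

theorem W_inv : Inv c.T c.W := (c.A_inv.mono c.T_le).inf (c.B_inv.mono c.T_le')

theorem W_swap : c.swap.W = c.W := inf_comm _ _

/-- `H` acts transitively on `α`. -/
theorem exists_apply (x y : α) : ∃ h : c.H, c.π h x = y := by
  obtain ⟨σ, ⟨h, rfl⟩, hσ⟩ := c.bigH.exists_apply (by have := c.six; omega) x y
  exact ⟨h, hσ⟩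

theorem exists_not_mem : ∃ h : c.H, (h : G) ∉ c.K := by
  obtain ⟨x, hx⟩ : ∃ x, x ≠ c.o := Fintype.exists_ne_of_one_lt_card (by have := c.six; omega) c.o
  obtain ⟨h, hh⟩ := c.exists_apply c.o x
  exact ⟨h, fun hK => hx (hh ▸ (c.stabH h).mpr hK)⟩

/-- The action of the two-point stabiliser on the remaining points. -/
def πT : c.T →* Perm {x : α // x ≠ c.o} where
  toFun t := (c.π ⟨t, t.2.1⟩).subtypePerm fun x => by
    have h := (c.stabH ⟨(t : G), t.2.1⟩).mpr t.2.2
    constructor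
    · intro hx e
      exact hx (by rw [e, h])
    · intro hx e
      exact hx ((c.π _).injective (e.trans h.symm))
  map_one' := by
    ext x
    show ((c.π ⟨((1 : c.T) : G), _⟩) (x : α)) = x
    rw [show (⟨((1 : c.T) : G), (1 : c.T).2.1⟩ : c.H) = 1 from rfl, map_one]
    rfl
  map_mul' s t := by
    ext x
    show ((c.π ⟨((s * t : c.T) : G), _⟩) (x : α)) = c.π _ (c.π _ x)
    rw [show (⟨((s * t : c.T) : G), (s * t).2.1⟩ : c.H) = ⟨s, s.2.1⟩ * ⟨t, t.2.1⟩ from rfl, map_mul]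
    rfl

theorem coe_πT (t : c.T) (x : {x : α // x ≠ c.o}) :
    (c.πT t x : α) = c.π ⟨t, t.2.1⟩ x := rfl

theorem πT_eq_one {t : c.T} : c.πT t = 1 ↔ (t : G) ∈ c.A := by
  constructor
  · intro h
    refine c.mem_A.mpr ⟨t.2.1, Equiv.ext fun x => ?_⟩
    rcases eq_or_ne x c.o with rfl | hx
    · exact (c.stabH _).mpr t.2.2
    · exact congrArg Subtype.val (Equiv.congr_fun h ⟨x, hx⟩)
  · intro h
    obtain ⟨_, h1⟩ := c.mem_A.mp h
    ext x
    rw [coe_πT, h1]
    rfl

theorem bigT : Big c.πT.range := by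
  intro σ hσ
  obtain ⟨h, hh⟩ := c.bigH (show Equiv.Perm.ofSubtype σ ∈ alternatingGroup α by
    rw [Equiv.Perm.mem_alternatingGroup, Equiv.Perm.sign_ofSubtype]
    exact Equiv.Perm.mem_alternatingGroup.mp hσ)
  have hK : (h : G) ∈ c.K := (c.stabH h).mp (by
    rw [hh]
    exact Equiv.Perm.ofSubtype_apply_of_not_mem σ (by simp))
  refine ⟨⟨h, h.2, hK⟩, ?_⟩
  ext x
  rw [coe_πT]
  show c.π h x = _
  rw [hh, Equiv.Perm.ofSubtype_apply_coe]

/-- The image of a subgroup of `H`. -/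
def imgH (N : Subgroup G) : Subgroup (Perm α) := (N.subgroupOf c.H).map c.π

/-- The image of a subgroup of `T` on the remaining points. -/
def imgT (N : Subgroup G) : Subgroup (Perm {x : α // x ≠ c.o}) := (N.subgroupOf c.T).map c.πT

theorem imgH_cases {N : Subgroup G} (hN : Inv c.H N) : c.imgH N = ⊥ ∨ Big (c.imgH N) := by
  refine eq_bot_or_big c.five c.bigH ?_
  rintro _ ⟨s, rfl⟩ _ ⟨n, hn, rfl⟩
  exact ⟨s * n * s⁻¹, hN s s.2 n hn, by simp⟩

theorem imgT_cases {N : Subgroup G} (hN : Inv c.T N) : c.imgT N = ⊥ ∨ Big (c.imgT N) := by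
  refine eq_bot_or_big c.five' c.bigT ?_
  rintro _ ⟨s, rfl⟩ _ ⟨n, hn, rfl⟩
  exact ⟨s * n * s⁻¹, hN s s.2 n hn, by simp⟩

theorem le_A_of_imgH {N : Subgroup G} (hN : N ≤ c.H) (h : c.imgH N = ⊥) : N ≤ c.A := by
  intro x hx
  refine c.mem_A.mpr ⟨hN hx, Subgroup.mem_bot.mp (h ▸ ?_)⟩
  exact ⟨⟨x, hN hx⟩, hx, rfl⟩

theorem le_A_of_imgT {N : Subgroup G} (hN : N ≤ c.T) (h : c.imgT N = ⊥) : N ≤ c.A := by
  intro x hx
  refine (c.πT_eq_one (t := ⟨x, hN hx⟩)).mp (Subgroup.mem_bot.mp (h ▸ ?_))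
  exact ⟨⟨x, hN hx⟩, hx, rfl⟩

theorem big_imgT {N : Subgroup G} (hN : Inv c.T N) (hT : N ≤ c.T) (h : ¬ N ≤ c.A) :
    Big (c.imgT N) :=
  (c.imgT_cases hN).resolve_left fun e => h (c.le_A_of_imgT hT e)

theorem big_imgH {N : Subgroup G} (hN : Inv c.H N) (hH : N ≤ c.H) (h : ¬ N ≤ c.A) :
    Big (c.imgH N) :=
  (c.imgH_cases hN).resolve_left fun e => h (c.le_A_of_imgH hH e)

theorem isSolvable_subgroupOf {S N : Subgroup G} (hs : Group.IsSolvable N) :
    Group.IsSolvable (N.subgroupOf S) :=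
  Group.isSolvable_of_isSolvable_injective
    (f := { toFun := fun x => (⟨((x : S) : G), x.2⟩ : N), map_one' := rfl, map_mul' := fun _ _ => rfl })
    fun _ _ h => Subtype.ext (Subtype.ext (congrArg (fun z : N => (z : G)) h))

theorem imgH_eq_bot_of_solvable {N : Subgroup G} (hN : Inv c.H N) (hs : Group.IsSolvable N) :
    c.imgH N = ⊥ := by
  have := isSolvable_subgroupOf (S := c.H) hs
  exact (c.imgH_cases hN).resolve_right fun hb =>
    hb.not_solvable c.five (Core.isSolvable_map this c.π)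

theorem imgT_eq_bot_of_solvable {N : Subgroup G} (hN : Inv c.T N) (hs : Group.IsSolvable N) :
    c.imgT N = ⊥ := by
  have := isSolvable_subgroupOf (S := c.T) hs
  exact (c.imgT_cases hN).resolve_right fun hb =>
    hb.not_solvable c.five' (Core.isSolvable_map this c.πT)

/-- The solvable radical of a subgroup, inside `G`. -/
def rad (S : Subgroup G) : Subgroup G := (Layer.solvRad S).map S.subtype

theorem rad_le (S : Subgroup G) : rad S ≤ S := map_subtype_le _

theorem rad_inv (S : Subgroup G) : Inv S (rad S) := inv_map_normal _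

theorem rad_solvable [Finite G] (S : Subgroup G) : Group.IsSolvable (rad S) :=
  Core.isSolvable_map Layer.solvRad_isSolvable _

theorem le_rad [Finite G] {S N : Subgroup G} (hN : N ≤ S) (hsn : (N.subgroupOf S).IsSubnormal)
    (hs : Group.IsSolvable N) : N ≤ rad S := by
  conv_lhs => rw [← map_subgroupOf_eq_of_le hN]
  exact map_mono (Layer.subnormal_le_solvRad hsn (isSolvable_subgroupOf hs))

theorem rad_T [Finite G] : rad c.T = rad c.H := by
  have hs := rad_solvable c.H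
  have hA : rad c.H ≤ c.A :=
    c.le_A_of_imgH (rad_le _) (c.imgH_eq_bot_of_solvable (rad_inv _) hs)
  have hT : rad c.H ≤ c.T := hA.trans c.A_le_T
  refine le_antisymm ?_ (le_rad hT (Subgroup.Normal.isSubnormal
    ((rad_inv c.H).mono c.T_le).subgroupOf_normal) hs)
  have hA' : rad c.T ≤ c.A :=
    c.le_A_of_imgT (rad_le _) (c.imgT_eq_bot_of_solvable (rad_inv _) (rad_solvable _))
  exact le_rad ((rad_le _).trans c.T_le)
    (isSubnormal_trans hA' c.A_le_H ((rad_inv _).mono c.A_le_T) c.A_inv) (rad_solvable _)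

theorem rad_eq_bot [Finite G] : rad c.H = ⊥ := by
  have h : rad c.K = rad c.H := by
    have h1 : rad c.swap.T = rad c.K := c.swap.rad_T
    rw [c.T_swap, c.rad_T] at h1
    exact h1.symm
  exact c.hbot _ (rad_le _) (h ▸ rad_le _) (rad_inv _) (h ▸ rad_inv _)

theorem eq_bot_of_solvable [Finite G] {N : Subgroup G} (hN : N ≤ c.H)
    (hsn : (N.subgroupOf c.H).IsSubnormal) (hs : Group.IsSolvable N) : N = ⊥ :=
  le_bot_iff.mp (c.rad_eq_bot ▸ le_rad hN hsn hs)

theorem W_inf_centralizer [Finite G] : c.W ⊓ centralizer (c.W : Set G) = ⊥ := by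
  have hWA : c.W ≤ c.A := inf_le_left
  have hWH : c.W ≤ c.H := hWA.trans c.A_le_H
  refine c.eq_bot_of_solvable (inf_le_left.trans hWH) ?_ ?_
  · have hinv : Inv c.A (c.W ⊓ centralizer (c.W : Set G)) :=
      (c.W_inv.inf c.W_inv.centralizer).mono c.A_le_T
    exact isSubnormal_trans (inf_le_left.trans hWA) c.A_le_H hinv c.A_inv
  · exact Group.isSolvable_of_comm fun x y =>
      Subtype.ext ((mem_centralizer_iff.mp x.2.2 _ y.2.1).symm)

end Ctx

end Cfsg.Agent.UnfaithfulSub
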