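import Cfsg.Agent.UnfaithfulSub.Perm

/-!
The residual with respect to groups without a large alternating section: the image of a conjugate
point stabiliser on its orbit contains the alternating group.
-/

set_option autoImplicit false

namespace Cfsg.Agent.UnfaithfulSub

open Equiv Subgroup

variable {G : Type*} [Group G] {α : Type*} [Fintype α] [DecidableEq α]

/-- Every representation of `P` on `α` with image not containing the alternating group is trivial. -/
def Full (α : Type*) [Fintype α] [DecidableEq α] (P : Subgroup G) : Prop :=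
  ∀ f : P →* Perm α, ¬ Big f.range → f = 1

/-- The join of the full subgroups of `S`. -/
def fullRes (α : Type*) [Fintype α] [DecidableEq α] (S : Subgroup G) : Subgroup G :=
  sSup {P | P ≤ S ∧ Full α P}

theorem fullRes_le (S : Subgroup G) : fullRes α S ≤ S := sSup_le fun _ h => h.1

theorem Full.le_ker {P S : Subgroup G} (hP : Full α P) (hPS : P ≤ S) (f : S →* Perm α)
    (hf : ¬ Big f.range) : P ≤ f.ker.map S.subtype := by
  intro x hx
  have h := hP (f.comp (Subgroup.inclusion hPS)) fun hb => hf (hb.mono (by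
    rintro _ ⟨y, rfl⟩
    exact ⟨_, rfl⟩))
  exact ⟨⟨x, hPS hx⟩, MonoidHom.mem_ker.mpr (DFunLike.congr_fun h (⟨x, hx⟩ : P)), rfl⟩

theorem fullRes_le_ker (S : Subgroup G) (f : S →* Perm α) (hf : ¬ Big f.range) :
    fullRes α S ≤ f.ker.map S.subtype :=
  sSup_le fun _ h => h.2.le_ker h.1 f hf

theorem full_fullRes (S : Subgroup G) : Full α (fullRes α S) := by
  intro f hf
  have h : fullRes α S ≤ f.ker.map (fullRes α S).subtype :=
    sSup_le fun P hP => hP.2.le_ker (le_sSup (a := P) hP) f hf
  ext1 x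
  obtain ⟨y, hy, hyx⟩ := h x.2
  have e : y = x := Subtype.ext hyx
  exact e ▸ hy

theorem le_fullRes {P S : Subgroup G} (hPS : P ≤ S) (hP : Full α P) : P ≤ fullRes α S :=
  le_sSup (a := P) ⟨hPS, hP⟩

theorem fullRes_mono {S S' : Subgroup G} (h : S ≤ S') : fullRes α S ≤ fullRes α S' :=
  sSup_le fun _ hP => le_fullRes (hP.1.trans h) hP.2

theorem Full.map {P : Subgroup G} (hP : Full α P) (e : G ≃* G) : Full α (P.map e.toMonoidHom) := by
  intro f hf
  let u : P →* ↥(P.map e.toMonoidHom) := (e.subgroupMap P).toMonoidHom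
  have hu : Function.Surjective u := (e.subgroupMap P).surjective
  have hr : (f.comp u).range = f.range := by
    ext y
    constructor
    · rintro ⟨x, rfl⟩
      exact ⟨_, rfl⟩
    · rintro ⟨x, rfl⟩
      obtain ⟨z, rfl⟩ := hu x
      exact ⟨z, rfl⟩
  have h := hP (f.comp u) (by rwa [hr])
  ext1 x
  obtain ⟨z, rfl⟩ := hu x
  exact DFunLike.congr_fun h z

theorem fullRes_map (S : Subgroup G) (e : G ≃* G) :
    fullRes α (S.map e.toMonoidHom) = (fullRes α S).map e.toMonoidHom := by
  refine le_antisymm ?_ (le_fullRes (map_mono (fullRes_le S)) ((full_fullRes S).map e))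
  intro x hx
  have h1 : (fullRes α (S.map e.toMonoidHom)).map e.symm.toMonoidHom ≤ fullRes α S := by
    refine le_fullRes ?_ ((full_fullRes _).map e.symm)
    rintro _ ⟨y, hy, rfl⟩
    obtain ⟨z, hz, rfl⟩ := fullRes_le _ hy
    simpa using hz
  exact ⟨e.symm x, h1 ⟨x, hx, rfl⟩, by simp⟩

/-- Some full subgroup has big image. -/
theorem not_fullRes_le_ker [Finite G] (hα : 5 ≤ Fintype.card α) (S : Subgroup G)
    (π : S →* Perm α) (hπ : Big π.range) : ¬ fullRes α S ≤ π.ker.map S.subtype := by
  intro hle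
  obtain ⟨P, hP, hmin⟩ := Set.Finite.exists_minimal
    (Set.toFinite {P : Subgroup S | Big (P.map π)}) ⟨⊤, by
      show Big ((⊤ : Subgroup S).map π)
      rwa [← MonoidHom.range_eq_map]⟩
  have hfull : Full α (P.map S.subtype) := by
    intro f hf
    let u : P →* ↥(P.map S.subtype) := (P.equivMapOfInjective _ S.subtype_injective).toMonoidHom
    let N : Subgroup S := (f.comp u).ker.map P.subtype
    have hNP : N ≤ P := map_subtype_le _
    have hinv : ∀ s ∈ P.map π, ∀ n ∈ N.map π, s * n * s⁻¹ ∈ N.map π := by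
      rintro _ ⟨s, hs, rfl⟩ _ ⟨n, ⟨m, hm, rfl⟩, rfl⟩
      refine ⟨s * m * s⁻¹, ⟨⟨s, hs⟩ * m * ⟨s, hs⟩⁻¹, ?_, rfl⟩, by simp⟩
      exact (MonoidHom.normal_ker _).conj_mem _ hm _
    rcases eq_bot_or_big hα hP hinv with e | e
    · exfalso
      apply hf
      have hker : (f.comp u).ker ≤ (π.comp P.subtype).ker := by
        intro m hm
        have : π m ∈ N.map π := ⟨m, ⟨m, hm, rfl⟩, rfl⟩
        rw [e] at this
        exact Subgroup.mem_bot.mp this
      have h1 := Subgroup.index_dvd_of_le hker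
      rw [Subgroup.index_ker, Subgroup.index_ker] at h1
      have h2 : (π.comp P.subtype).range = P.map π := by
        rw [MonoidHom.range_comp, Subgroup.range_subtype]
      rw [h2] at h1
      have h3 : Nat.card (f.comp u).range ≤ Nat.card f.range := by
        refine Subgroup.card_le_of_le ?_
        rintro _ ⟨x, rfl⟩
        exact ⟨_, rfl⟩
      have h4 := Big.card_le (by omega) hP
      have h5 := Nat.le_of_dvd Nat.card_pos h1
      exact big_of_card (by omega)
    · have hPN : P ≤ N := hmin e hNP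
      ext1 x
      obtain ⟨z, hz⟩ : ∃ z, u z = x := (P.equivMapOfInjective _ S.subtype_injective).surjective x
      obtain ⟨m, hm, hmz⟩ := hPN z.2
      have e' : m = z := Subtype.ext hmz
      rw [← hz]
      exact e' ▸ hm
  have h1 := le_fullRes (S := S) (map_subtype_le P) hfull
  refine Big.ne_bot (by omega) hP ((eq_bot_iff_forall _).mpr ?_)
  rintro _ ⟨x, hx, rfl⟩
  obtain ⟨y, hy, hyx⟩ := hle (h1 ⟨x, hx, rfl⟩)
  rw [← Subtype.ext hyx]
  exact hy

/-- If `K` is conjugate to `H`, both acting on `α` with stabilisers `H ⊓ K` and the image of `H` is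
big, then the image of `K` is big. -/
theorem big_of_paired [Finite G] (hα : 5 ≤ Fintype.card α) {H K : Subgroup G}
    (π : H →* Perm α) (ρ : K →* Perm α) (o : α)
    (stabH : ∀ h : H, π h o = o ↔ (h : G) ∈ K) (stabK : ∀ k : K, ρ k o = o ↔ (k : G) ∈ H)
    (hπ : Big π.range) (hconj : ∃ g : G, H.map (MulAut.conj g).toMonoidHom = K) : Big ρ.range := by
  by_contra hρ
  have hKT : fullRes α K ≤ H ⊓ K := by
    intro x hx
    obtain ⟨y, hy, rfl⟩ := fullRes_le_ker K ρ hρ hx
    refine ⟨(stabK y).mp ?_, y.2⟩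
    rw [MonoidHom.mem_ker.mp hy]
    rfl
  have heq : fullRes α (H ⊓ K) = fullRes α K :=
    le_antisymm (fullRes_mono inf_le_right) (le_fullRes hKT (full_fullRes K))
  let πT : ↥(H ⊓ K) →* Perm α := π.comp (Subgroup.inclusion inf_le_left)
  have hfix : ∀ t, πT t o = o := fun t => (stabH _).mpr t.2.2
  have hT : ¬ Big πT.range := by
    intro hb
    obtain ⟨x, hx⟩ : ∃ x, x ≠ o := Fintype.exists_ne_of_one_lt_card (by omega) o
    obtain ⟨σ, ⟨t, rfl⟩, hσ⟩ := hb.exists_apply (by omega) o x
    exact hx (hσ ▸ hfix t)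
  have hle : fullRes α (H ⊓ K) ≤ π.ker.map H.subtype := by
    intro x hx
    obtain ⟨y, hy, rfl⟩ := fullRes_le_ker _ πT hT hx
    exact ⟨_, hy, rfl⟩
  obtain ⟨g, hg⟩ := hconj
  have hcard : Nat.card (fullRes α K) = Nat.card (fullRes α H) := by
    rw [← hg, fullRes_map]
    exact (Nat.card_congr ((fullRes α H).equivMapOfInjective _
      (MulAut.conj g).injective).toEquiv).symm
  have h2 : fullRes α (H ⊓ K) = fullRes α H :=
    Subgroup.eq_of_le_of_card_ge (fullRes_mono inf_le_left) (by rw [heq, hcard])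
  exact not_fullRes_le_ker hα H π hπ (h2 ▸ hle)

end Cfsg.Agent.UnfaithfulSub
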