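import Mathlib

/-!
Elementary facts on subgroups of a symmetric group containing the alternating group.
-/

set_option autoImplicit false

namespace Cfsg.Agent.UnfaithfulSub

open Equiv Subgroup

variable {α : Type*} [Fintype α] [DecidableEq α]

/-- The subgroup contains the alternating group. -/
def Big (S : Subgroup (Perm α)) : Prop := alternatingGroup α ≤ S

theorem Big.mono {S S' : Subgroup (Perm α)} (h : Big S) (h' : S ≤ S') : Big S' :=
  le_trans (a := alternatingGroup α) h h'

theorem card_perm_eq : Nat.card (Perm α) = (Fintype.card α).factorial := by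
  rw [Nat.card_eq_fintype_card, Fintype.card_perm]

theorem big_of_index {S : Subgroup (Perm α)} (h : S.index ≤ 2) : Big S :=
  Equiv.Perm.alternatingGroup_le_of_index_le_two h

theorem big_of_card {S : Subgroup (Perm α)} (h : (Fintype.card α).factorial ≤ 2 * Nat.card S) :
    Big S := by
  refine big_of_index (le_of_not_gt fun hlt => ?_)
  have hm := S.card_mul_index
  rw [card_perm_eq] at hm
  have hpos : 0 < Nat.card S := Nat.card_pos
  nlinarith

theorem Big.card_le (hα : 2 ≤ Fintype.card α) {S : Subgroup (Perm α)} (h : Big S) :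
    (Fintype.card α).factorial ≤ 2 * Nat.card S := by
  have : Nontrivial α := Fintype.one_lt_card_iff_nontrivial.mp hα
  rw [← card_perm_eq, ← two_mul_nat_card_alternatingGroup (α := α)]
  exact Nat.mul_le_mul_left 2 (Nat.le_of_dvd Nat.card_pos (Subgroup.card_dvd_of_le h))

/-- Nothing but the identity commutes with the alternating group. -/
theorem eq_one_of_commute (hα : 4 ≤ Fintype.card α) {g : Perm α}
    (h : ∀ x ∈ alternatingGroup α, x * g = g * x) : g = 1 := by
  by_contra hg
  obtain ⟨x, hx⟩ : ∃ x, g x ≠ x := by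
    by_contra hc
    exact hg (Equiv.ext fun x => by
      by_contra hne
      exact hc ⟨x, hne⟩)
  set y := g x with hy
  obtain ⟨z, hz⟩ : ∃ z, z ∉ ({x, y} : Finset α) := by
    by_contra hc
    push Not at hc
    have h1 : (Finset.univ : Finset α) ⊆ {x, y} := fun a _ => hc a
    have h2 := Finset.card_le_card h1
    rw [Finset.card_univ] at h2
    have := Finset.card_le_two (a := x) (b := y)
    omega
  obtain ⟨w, hw⟩ : ∃ w, w ∉ ({x, y, z} : Finset α) := by
    by_contra hc
    push Not at hc
    have h1 : (Finset.univ : Finset α) ⊆ {x, y, z} := fun a _ => hc a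
    have h2 := Finset.card_le_card h1
    rw [Finset.card_univ] at h2
    have := Finset.card_le_three (a := x) (b := y) (c := z)
    omega
  simp only [Finset.mem_insert, Finset.mem_singleton, not_or] at hz hw
  have hc : swap y z * swap y w ∈ alternatingGroup α := by
    rw [Equiv.Perm.mem_alternatingGroup, map_mul, Equiv.Perm.sign_swap (Ne.symm hz.2),
      Equiv.Perm.sign_swap (Ne.symm hw.2.1)]
    decide
  have h1 := congrArg (fun p : Perm α => p x) (h _ hc)
  simp only [Equiv.Perm.mul_apply] at h1
  have e1 : swap y w x = x := swap_apply_of_ne_of_ne (Ne.symm hx) (Ne.symm hw.1)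
  have e2 : swap y z x = x := swap_apply_of_ne_of_ne (Ne.symm hx) (Ne.symm hz.1)
  rw [e1, e2, ← hy, swap_apply_left, swap_apply_of_ne_of_ne hw.2.1 hw.2.2] at h1
  exact hw.2.1 h1

theorem isSimple (hα : 5 ≤ Fintype.card α) : IsSimpleGroup (alternatingGroup α) :=
  alternatingGroup.isSimpleGroup (by rwa [Nat.card_eq_fintype_card])

theorem Big.ne_bot (hα : 3 ≤ Fintype.card α) {S : Subgroup (Perm α)} (h : Big S) : S ≠ ⊥ := by
  intro e
  have := alternatingGroup.nontrivial_of_three_le_card (α := α) (by rwa [Nat.card_eq_fintype_card])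
  exact (Subgroup.nontrivial_iff_ne_bot _).mp this (le_bot_iff.mp (e ▸ h))

/-- A subgroup normalised by a big subgroup is trivial or big. -/
theorem eq_bot_or_big (hα : 5 ≤ Fintype.card α) {S N : Subgroup (Perm α)} (hS : Big S)
    (hN : ∀ s ∈ S, ∀ n ∈ N, s * n * s⁻¹ ∈ N) : N = ⊥ ∨ Big N := by
  have hn : (N.subgroupOf (alternatingGroup α)).Normal :=
    ⟨fun n hn s => hN _ (hS s.2) _ hn⟩
  have := isSimple hα
  rcases hn.eq_bot_or_eq_top with e | e
  · left
    refine (eq_bot_iff_forall _).mpr fun n hn' => eq_one_of_commute (by omega) fun x hx => ?_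
    have h1 : x * n * x⁻¹ * n⁻¹ ∈ N := mul_mem (hN _ (hS hx) _ hn') (inv_mem hn')
    have h2 : x * n * x⁻¹ * n⁻¹ ∈ alternatingGroup α := by
      have h3 : n * x⁻¹ * n⁻¹ ∈ alternatingGroup α :=
        (inferInstance : (alternatingGroup α).Normal).conj_mem _ (inv_mem hx) n
      have e3 : x * n * x⁻¹ * n⁻¹ = x * (n * x⁻¹ * n⁻¹) := by group
      rw [e3]
      exact mul_mem hx h3
    have h4 : (⟨_, h2⟩ : alternatingGroup α) ∈ N.subgroupOf (alternatingGroup α) := h1
    rw [e, Subgroup.mem_bot] at h4
    have h5 : x * n * x⁻¹ * n⁻¹ = 1 := congrArg Subtype.val h4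
    calc x * n = x * n * x⁻¹ * n⁻¹ * (n * x) := by group
      _ = n * x := by rw [h5, one_mul]
  · exact Or.inr (subgroupOf_eq_top.mp e)

theorem Big.not_solvable (hα : 5 ≤ Fintype.card α) {S : Subgroup (Perm α)} (h : Big S) :
    ¬ Group.IsSolvable S := by
  intro hs
  have := isSimple hα
  have h' : Group.IsSolvable (alternatingGroup α) :=
    Group.isSolvable_of_isSolvable_injective (Subgroup.inclusion_injective h)
  have hc := IsSimpleGroup.comm_iff_isSolvable.mpr h'
  have h4 : 4 ≤ Nat.card α := by rw [Nat.card_eq_fintype_card]; omega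
  have hz := alternatingGroup.center_eq_bot (α := α) h4
  have ht : Subgroup.center (alternatingGroup α) = ⊤ :=
    eq_top_iff.mpr fun x _ => Subgroup.mem_center_iff.mpr fun y => hc y x
  rw [hz] at ht
  have := alternatingGroup.nontrivial_of_three_le_card (α := α)
    (by rw [Nat.card_eq_fintype_card]; omega)
  exact bot_ne_top ht

/-- Two big subgroups do not centralise each other. -/
theorem Big.not_commute (hα : 5 ≤ Fintype.card α) {S N : Subgroup (Perm α)} (hS : Big S)
    (hN : Big N) (h : ∀ s ∈ S, ∀ n ∈ N, s * n = n * s) : False :=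
  hN.ne_bot (by omega) ((eq_bot_iff_forall _).mpr fun n hn =>
    eq_one_of_commute (by omega) fun x hx => h x (hS hx) n hn)

theorem Big.exists_apply (hα : 3 ≤ Fintype.card α) {S : Subgroup (Perm α)} (h : Big S) (x y : α) :
    ∃ σ ∈ S, σ x = y := by
  have := alternatingGroup.isPretransitive_of_three_le_card α
    (by rwa [Nat.card_eq_fintype_card] : 3 ≤ Nat.card α)
  obtain ⟨σ, hσ⟩ := MulAction.exists_smul_eq (alternatingGroup α) x y
  exact ⟨σ, h σ.2, hσ⟩

end Cfsg.Agent.UnfaithfulSub
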