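import Cfsg.Agent.UnfaithfulSub.Core

/-!
The structure of a point stabiliser acting unfaithfully with a big constituent.
-/

set_option autoImplicit false

namespace Cfsg.Agent.UnfaithfulSub

open Equiv Subgroup

/-- The pairs of permutations of equal sign. -/
def eqSign (m n : ℕ) : Subgroup (Perm (Fin m) × Perm (Fin n)) :=
  ((Perm.sign.comp (MonoidHom.fst (Perm (Fin m)) (Perm (Fin n)))) *
    (Perm.sign.comp (MonoidHom.snd (Perm (Fin m)) (Perm (Fin n))))).ker

theorem mem_eqSign {m n : ℕ} {x : Perm (Fin m) × Perm (Fin n)} :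
    x ∈ eqSign m n ↔ Perm.sign x.1 = Perm.sign x.2 := by
  rw [eqSign, MonoidHom.mem_ker, MonoidHom.mul_apply]
  simp only [MonoidHom.coe_comp, Function.comp_apply, MonoidHom.coe_fst, MonoidHom.coe_snd]
  rcases Int.units_eq_one_or (Perm.sign x.1) with h | h <;>
    rcases Int.units_eq_one_or (Perm.sign x.2) with h' | h' <;> simp [h, h']

/-- Description of a group with a pair of representations jointly faithful, containing both
alternating groups. -/
theorem mulEquiv_of_pair {X : Type*} [Group X] {m n : ℕ} (f : X →* Perm (Fin m))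
    (g : X →* Perm (Fin n)) (hinj : ∀ x, f x = 1 → g x = 1 → x = 1)
    (hf : ∀ σ ∈ alternatingGroup (Fin m), ∃ x, f x = σ ∧ g x = 1)
    (hg : ∀ σ ∈ alternatingGroup (Fin n), ∃ x, f x = 1 ∧ g x = σ) :
    ((∀ x, f x ∈ alternatingGroup (Fin m)) → (∀ x, g x ∈ alternatingGroup (Fin n)) →
      Nonempty (X ≃* alternatingGroup (Fin m) × alternatingGroup (Fin n))) ∧
    (Function.Surjective f → Function.Surjective g →
      Nonempty (X ≃* Perm (Fin m) × Perm (Fin n)) ∨ Nonempty (X ≃* eqSign m n)) := by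
  have hpair : ∀ σ ∈ alternatingGroup (Fin m), ∀ τ ∈ alternatingGroup (Fin n),
      ∃ x, f x = σ ∧ g x = τ := by
    intro σ hσ τ hτ
    obtain ⟨x, h1, h2⟩ := hf σ hσ
    obtain ⟨y, h3, h4⟩ := hg τ hτ
    exact ⟨x * y, by rw [map_mul, h1, h3, mul_one], by rw [map_mul, h2, h4, one_mul]⟩
  have hψ : Function.Injective (f.prod g) := by
    rw [injective_iff_map_eq_one]
    intro x hx
    exact hinj x (congrArg Prod.fst hx) (congrArg Prod.snd hx)
  refine ⟨fun h1 h2 => ⟨MulEquiv.ofBijective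
    ((f.codRestrict _ h1).prod (g.codRestrict _ h2)) ⟨?_, ?_⟩⟩, fun hfs hgs => ?_⟩
  · intro x y hxy
    exact hψ (Prod.ext (congrArg Subtype.val (congrArg Prod.fst hxy))
      (congrArg Subtype.val (congrArg Prod.snd hxy)))
  · rintro ⟨⟨σ, hσ⟩, ⟨τ, hτ⟩⟩
    obtain ⟨x, rfl, rfl⟩ := hpair σ hσ τ hτ
    exact ⟨x, rfl⟩
  -- a pair is attained as soon as some pair of the same signs is
  have key : ∀ σ : Perm (Fin m), ∀ τ : Perm (Fin n),
      (∃ x, Perm.sign (f x) = Perm.sign σ ∧ Perm.sign (g x) = Perm.sign τ) →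
      ∃ x, f x = σ ∧ g x = τ := by
    rintro σ τ ⟨x, h1, h2⟩
    obtain ⟨y, h3, h4⟩ := hpair (σ * (f x)⁻¹)
      (by rw [Perm.mem_alternatingGroup, map_mul, map_inv, h1, mul_inv_cancel]) (τ * (g x)⁻¹)
      (by rw [Perm.mem_alternatingGroup, map_mul, map_inv, h2, mul_inv_cancel])
    exact ⟨y * x, by rw [map_mul, h3, inv_mul_cancel_right], by rw [map_mul, h4, inv_mul_cancel_right]⟩
  by_cases hsign : ∀ x, Perm.sign (f x) = Perm.sign (g x)
  · right
    refine ⟨MulEquiv.ofBijective ((f.prod g).codRestrict (eqSign m n)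
      fun x => mem_eqSign.mpr (hsign x)) ⟨fun x y hxy => hψ (congrArg Subtype.val hxy), ?_⟩⟩
    rintro ⟨⟨σ, τ⟩, h⟩
    obtain ⟨x, hx⟩ := hfs σ
    obtain ⟨y, rfl, rfl⟩ := key σ τ ⟨x, by rw [hx], by rw [← hsign x, hx]; exact mem_eqSign.mp h⟩
    exact ⟨y, rfl⟩
  · left
    push Not at hsign
    obtain ⟨u, hu⟩ := hsign
    refine ⟨MulEquiv.ofBijective (f.prod g) ⟨hψ, ?_⟩⟩
    rintro ⟨σ, τ⟩
    obtain ⟨x, hx⟩ := hfs σ
    obtain ⟨v, hv⟩ := hgs τ
    suffices h : ∃ z, Perm.sign (f z) = Perm.sign σ ∧ Perm.sign (g z) = Perm.sign τ by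
      obtain ⟨y, hy1, hy2⟩ := key σ τ h
      exact ⟨y, Prod.ext hy1 hy2⟩
    by_cases h : Perm.sign (g x) = Perm.sign τ
    · exact ⟨x, by rw [hx], h⟩
    by_cases h' : Perm.sign (f v) = Perm.sign σ
    · exact ⟨v, h', by rw [hv]⟩
    have hx' : Perm.sign (g x) = -Perm.sign τ := (Int.units_ne_iff_eq_neg).mp h
    have hv' : Perm.sign (f v) = -Perm.sign σ := (Int.units_ne_iff_eq_neg).mp h'
    have hu' : Perm.sign (f u) = -Perm.sign (g u) := (Int.units_ne_iff_eq_neg).mp hu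
    have key2 : ∀ z : X, Perm.sign (f (x * z)) = Perm.sign σ * Perm.sign (f z) ∧
        Perm.sign (g (x * z)) = -Perm.sign τ * Perm.sign (g z) := fun z => by
      simp [map_mul, hx, hx']
    rcases Int.units_eq_one_or (Perm.sign (g u)) with e | e
    · refine ⟨v * u, ?_, ?_⟩
      · rw [map_mul, map_mul, hv', hu', e]; simp
      · rw [map_mul, map_mul, hv, e, mul_one]
    · refine ⟨x * u, ?_, ?_⟩
      · rw [(key2 u).1, hu', e]; simp
      · rw [(key2 u).2, e]; simp

namespace Ctx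

variable {G : Type*} [Group G] {α : Type*} [Fintype α] [DecidableEq α] (c : Ctx G α)

theorem card_range_mul_A [Finite G] : Nat.card c.π.range * Nat.card c.A = Nat.card c.H := by
  rw [A, show Nat.card (c.π.ker.map c.H.subtype : Subgroup G) = Nat.card c.π.ker from
    (Nat.card_congr (c.π.ker.equivMapOfInjective _ c.H.subtype_injective).toEquiv).symm,
    ← Subgroup.index_ker, mul_comm, Subgroup.card_mul_index]

theorem card_conj : Nat.card c.H = Nat.card c.K := by
  obtain ⟨g, hg⟩ := c.conj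
  rw [← hg]
  exact Nat.card_congr (c.H.equivMapOfInjective _ (MulAut.conj g).injective).toEquiv

theorem card_beta : Fintype.card {x : α // x ≠ c.o} + 1 = Fintype.card α := by
  have := c.six
  simp only [ne_eq, Fintype.card_subtype_compl, Fintype.card_unique]
  omega

theorem card_B_le [Finite G] (hW : c.W = ⊥) :
    Nat.card c.B ≤ (Fintype.card {x : α // x ≠ c.o}).factorial := by
  rw [← card_perm_eq]
  refine Nat.card_le_card_of_injective
    (c.πT.comp (Subgroup.inclusion c.B_le_T)) ((injective_iff_map_eq_one _).mpr fun x hx => ?_)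
  exact Subtype.ext (Subgroup.mem_bot.mp (hW ▸ ⟨c.πT_eq_one.mp hx, x.2⟩))

theorem A_inf_B (hW : c.W = ⊥) : ∀ x, x ∈ c.A → x ∈ c.B → x = 1 := fun _ h1 h2 =>
  Subgroup.mem_bot.mp (hW ▸ ⟨h1, h2⟩)

theorem B_ne_bot [Finite G] (hA : c.A ≠ ⊥) : c.B ≠ ⊥ := by
  intro hB
  have hAbig : Big (c.swap.imgT c.A) :=
    c.swap.big_imgT ((c.A_inv.mono c.T_le).mono c.T_swap.le) (c.A_le_T.trans c.T_swap.ge)
      fun hle => hA (le_bot_iff.mp (hB ▸ hle))
  have h1 := hAbig.card_le (by have := c.swap.five'; omega)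
  have h2 : Nat.card (c.swap.imgT c.A) ≤ Nat.card c.A :=
    (Nat.le_of_dvd Nat.card_pos (Subgroup.card_map_dvd _ _)).trans
      (Nat.card_congr (Subgroup.subgroupOfEquivOfLe (c.A_le_T.trans c.T_swap.ge)).toEquiv).le
  have h3 := c.bigH.card_le (by have := c.six; omega)
  have h4 : Nat.card c.K ≤ (Fintype.card α).factorial := by
    show Nat.card c.swap.H ≤ _
    rw [← c.swap.card_range_mul_A, show c.swap.A = ⊥ from hB, Subgroup.card_bot, mul_one,
      ← card_perm_eq]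
    exact Subgroup.card_le_card_group _
  rw [← c.card_conj, ← c.card_range_mul_A] at h4
  have hfac : 120 ≤ (Fintype.card {x : α // x ≠ c.o}).factorial :=
    (by decide : 120 ≤ Nat.factorial 5).trans (Nat.factorial_le c.five')
  have h5 : (Fintype.card {x : α // x ≠ c.swap.o}).factorial =
      (Fintype.card {x : α // x ≠ c.o}).factorial := rfl
  have : 0 < Nat.card c.π.range := Nat.card_pos
  nlinarith

/-- The centraliser of the kernel in the stabiliser. -/
def C : Subgroup G := c.H ⊓ centralizer (c.A : Set G)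

theorem C_inv : Inv c.H c.C := by
  have hHH : Inv c.H c.H := fun s hs n hn => mul_mem (mul_mem hs hn) (inv_mem hs)
  exact hHH.inf c.A_inv.centralizer

theorem B_le_C (hW : c.W = ⊥) : c.B ≤ c.C := by
  refine fun b hb => ⟨c.T_le (c.B_le_T hb), mem_centralizer_iff.mpr fun a ha => ?_⟩
  have h1 : a * b * a⁻¹ * b⁻¹ ∈ c.B :=
    mul_mem (c.B_inv a (c.T_le' (c.A_le_T ha)) b hb) (inv_mem hb)
  have h2 : a * b * a⁻¹ * b⁻¹ ∈ c.A := by
    have e : a * b * a⁻¹ * b⁻¹ = a * (b * a⁻¹ * b⁻¹) := by group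
    rw [e]
    exact mul_mem ha (c.A_inv b (c.T_le (c.B_le_T hb)) _ (inv_mem ha))
  have h3 := c.A_inf_B hW _ h2 h1
  rwa [mul_inv_eq_one, mul_inv_eq_iff_eq_mul] at h3

theorem C_inf_A [Finite G] : c.C ⊓ c.A = ⊥ := by
  refine c.eq_bot_of_solvable (inf_le_right.trans c.A_le_H)
    (Subgroup.Normal.isSubnormal (c.C_inv.inf c.A_inv).subgroupOf_normal)
    (Group.isSolvable_of_comm fun x y => Subtype.ext ?_)
  exact (mem_centralizer_iff.mp x.2.1.2 _ y.2.2).symm

theorem C_big [Finite G] (hA : c.A ≠ ⊥) (hW : c.W = ⊥) : Big (c.imgH c.C) :=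
  c.big_imgH c.C_inv inf_le_left fun hle => c.B_ne_bot hA ((eq_bot_iff_forall _).mpr fun b hb =>
    c.A_inf_B hW b (hle (c.B_le_C hW hb)) hb)

theorem C_inf_K [Finite G] (hA : c.A ≠ ⊥) (hW : c.W = ⊥) {x : G} (hx : x ∈ c.C) (hK : x ∈ c.K) :
    x ∈ c.B := by
  have hxT : x ∈ c.swap.T := ⟨hK, hx.1⟩
  have hAbig : Big (c.swap.imgT c.A) :=
    c.swap.big_imgT ((c.A_inv.mono c.T_le).mono c.T_swap.le) (c.A_le_T.trans c.T_swap.ge)
      fun hle => hA ((eq_bot_iff_forall _).mpr fun a ha => c.A_inf_B hW a ha (hle ha))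
  refine (c.swap.πT_eq_one (t := ⟨x, hxT⟩)).mp (eq_one_of_commute
    (by have := c.swap.five'; omega) fun σ hσ => ?_)
  obtain ⟨a, ha, rfl⟩ := hAbig hσ
  rw [← map_mul, ← map_mul]
  exact congrArg c.swap.πT (Subtype.ext (mem_centralizer_iff.mp hx.2 _ ha))

theorem exists_decomp [Finite G] (hA : c.A ≠ ⊥) (hW : c.W = ⊥) (h : c.H) :
    ∃ x : c.H, (x : G) ∈ c.C ∧ ((x⁻¹ * h : c.H) : G) ∈ c.swap.T := by
  obtain ⟨σ, ⟨x, hx, rfl⟩, hσ⟩ :=
    (c.C_big hA hW).exists_apply (by have := c.six; omega) c.o (c.π h c.o)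
  refine ⟨x, hx, (c.stabH _).mp ?_, SetLike.coe_mem _⟩
  rw [map_mul, Equiv.Perm.mul_apply, ← hσ, map_inv]
  exact Equiv.symm_apply_apply _ _

/-- The second projection of `H`. -/
theorem exists_second [Finite G] (hA : c.A ≠ ⊥) (hW : c.W = ⊥) :
    ∃ φ : c.H →* Perm {x : α // x ≠ c.o},
      (∀ h : c.H, φ h = 1 ↔ (h : G) ∈ c.C) ∧
      (∀ t : c.swap.T, φ ⟨t, t.2.2⟩ = c.swap.πT t) ∧ φ.range = c.swap.πT.range := by
  choose x hxC hxT using c.exists_decomp hA hW
  let φ0 : c.H → Perm {x : α // x ≠ c.o} := fun h => c.swap.πT ⟨_, hxT h⟩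
  have huniq : ∀ (h y : c.H) (hy : ((y⁻¹ * h : c.H) : G) ∈ c.swap.T), (y : G) ∈ c.C →
      φ0 h = c.swap.πT ⟨_, hy⟩ := by
    intro h y hy hyC
    have h1 : ((y⁻¹ * x h : c.H) : G) ∈ c.C := by
      rw [Subgroup.coe_mul, Subgroup.coe_inv]
      exact mul_mem (inv_mem hyC) (hxC h)
    have h2 : ((y⁻¹ * x h : c.H) : G) ∈ c.K := by
      have e : (y⁻¹ * x h : c.H) = (y⁻¹ * h) * ((x h)⁻¹ * h)⁻¹ := by group
      rw [e, Subgroup.coe_mul, Subgroup.coe_inv]
      exact mul_mem hy.1 (inv_mem (hxT h).1)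
    have h3 := c.C_inf_K hA hW h1 h2
    have hT : ((y⁻¹ * x h : c.H) : G) ∈ c.swap.T := ⟨h2, SetLike.coe_mem _⟩
    have h4 : c.swap.πT ⟨_, hT⟩ = 1 := c.swap.πT_eq_one.mpr h3
    have e : (⟨_, hy⟩ : c.swap.T) = ⟨_, hT⟩ * ⟨_, hxT h⟩ := Subtype.ext (by simp [mul_assoc])
    show c.swap.πT ⟨_, hxT h⟩ = _
    rw [e, map_mul, h4, one_mul]
  refine ⟨MonoidHom.mk' φ0 fun h k => ?_, fun h => ?_, fun t => ?_, ?_⟩
  · let s : c.H := (x h)⁻¹ * h
    have hy : (((x h * (s * x k * s⁻¹))⁻¹ * (h * k) : c.H) : G) ∈ c.swap.T := by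
      have e : ((x h * (s * x k * s⁻¹))⁻¹ * (h * k) : c.H) = s * ((x k)⁻¹ * k) := by
        simp only [s]
        group
      rw [e, Subgroup.coe_mul]
      exact mul_mem (hxT h) (hxT k)
    have hyC : (((x h * (s * x k * s⁻¹)) : c.H) : G) ∈ c.C := by
      simp only [Subgroup.coe_mul, Subgroup.coe_inv]
      exact mul_mem (hxC h) (by simpa using c.C_inv (s : G) s.2 _ (hxC k))
    rw [huniq _ _ hy hyC]
    show _ = c.swap.πT ⟨_, hxT h⟩ * c.swap.πT ⟨_, hxT k⟩
    rw [← map_mul]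
    refine congrArg c.swap.πT (Subtype.ext ?_)
    simp only [s, Subgroup.coe_mul, Subgroup.coe_inv]
    group
  · constructor
    · intro h1
      have h2 : ((x h)⁻¹ * h : c.H).1 ∈ c.B := (c.swap.πT_eq_one (t := ⟨_, hxT h⟩)).mp h1
      have h3 := c.B_le_C hW h2
      have := mul_mem (hxC h) h3
      simpa using this
    · intro hC
      show φ0 h = 1
      rw [huniq h h (by simp) hC]
      refine (c.swap.πT_eq_one).mpr ?_
      simp
  · show φ0 _ = _
    rw [huniq _ 1 (by simp) (one_mem _)]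
    exact congrArg c.swap.πT (Subtype.ext (by simp))
  · ext σ
    constructor
    · rintro ⟨h, rfl⟩
      exact ⟨⟨_, hxT h⟩, rfl⟩
    · rintro ⟨t, rfl⟩
      refine ⟨⟨t, t.2.2⟩, ?_⟩
      show φ0 _ = _
      rw [huniq _ 1 (by simp) (one_mem _)]
      exact congrArg c.swap.πT (Subtype.ext (by simp))

/-- Both kernels have the same order. -/
theorem card_range_eq [Finite G] (hA : c.A ≠ ⊥) (hW : c.W = ⊥) :
    Nat.card c.ρ.range = Nat.card c.π.range := by
  obtain ⟨g, hg⟩ := c.conj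
  let e : G ≃* G := MulAut.conj g
  have heK : ∀ x ∈ c.H, e x ∈ c.K := fun x hx => hg ▸ ⟨x, hx, rfl⟩
  have hfac : 2 * (Fintype.card {x : α // x ≠ c.o}).factorial < (Fintype.card α).factorial := by
    rw [← c.card_beta, Nat.factorial_succ]
    have := c.five'
    have : 0 < (Fintype.card {x : α // x ≠ c.o}).factorial := Nat.factorial_pos _
    nlinarith
  set B' : Subgroup G := c.B.comap e.toMonoidHom with hB'def
  have hB'H : B' ≤ c.H := fun x hx => by
    obtain ⟨y, hy, hyx⟩ := hg.ge (c.T_le' (c.B_le_T hx))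
    exact (e.injective hyx) ▸ hy
  have hB'inv : Inv c.H B' := fun h hh x hx => by
    show e (h * x * h⁻¹) ∈ c.B
    rw [map_mul, map_mul, map_inv]
    exact c.B_inv _ (heK h hh) _ hx
  have hB'card : Nat.card B' = Nat.card c.B := by
    rw [Nat.card_congr (B'.equivMapOfInjective e.toMonoidHom e.injective).toEquiv, hB'def,
      Subgroup.map_comap_eq_self_of_surjective e.surjective]
  have hCB' : ∀ y, y ∈ c.C → y ∈ B' → y = 1 := by
    have hbot : c.imgH (c.C ⊓ B') = ⊥ := by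
      refine (c.imgH_cases (c.C_inv.inf hB'inv)).resolve_right fun hb => ?_
      have h1 := hb.card_le (by have := c.six; omega)
      have h2 : Nat.card (c.imgH (c.C ⊓ B')) ≤ Nat.card c.B := by
        refine (Nat.le_of_dvd Nat.card_pos (Subgroup.card_map_dvd _ _)).trans ?_
        rw [← hB'card, Nat.card_congr
          (Subgroup.subgroupOfEquivOfLe
            (inf_le_left.trans inf_le_left : c.C ⊓ B' ≤ c.H)).toEquiv]
        exact Subgroup.card_le_of_le inf_le_right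
      have := c.card_B_le hW
      omega
    intro y hy hy'
    exact Subgroup.mem_bot.mp (c.C_inf_A.le
      ⟨hy, c.le_A_of_imgH (inf_le_left.trans inf_le_left) hbot ⟨hy, hy'⟩⟩)
  have hB'A : B' ≤ c.A := by
    intro x hx
    refine c.mem_A.mpr ⟨hB'H hx, eq_one_of_commute (by have := c.six; omega) fun σ hσ => ?_⟩
    obtain ⟨y, hy, rfl⟩ := (c.C_big hA hW) hσ
    have h1 : (y : G) * x * (y : G)⁻¹ * x⁻¹ = 1 := by
      refine hCB' _ ?_ (mul_mem (hB'inv _ y.2 x hx) (inv_mem hx))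
      have e1 : (y : G) * x * (y : G)⁻¹ * x⁻¹ = y * (x * (y : G)⁻¹ * x⁻¹) := by group
      rw [e1]
      exact mul_mem hy (c.C_inv x (hB'H hx) _ (inv_mem hy))
    rw [mul_inv_eq_one, mul_inv_eq_iff_eq_mul] at h1
    rw [← map_mul, ← map_mul]
    exact congrArg c.π (Subtype.ext h1)
  have hAcard : Nat.card c.A ≤ (Fintype.card {x : α // x ≠ c.o}).factorial := by
    have h := c.swap.card_B_le (by rw [c.W_swap]; exact hW)
    exact h
  have hAB : Nat.card c.A = Nat.card c.B := by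
    refine le_antisymm ?_ (hB'card ▸ Subgroup.card_le_of_le hB'A)
    let A' : Subgroup G := c.A.map e.toMonoidHom
    have hA'card : Nat.card A' = Nat.card c.A :=
      (Nat.card_congr (c.A.equivMapOfInjective _ e.injective).toEquiv).symm
    have hA'K : A' ≤ c.K := by
      rintro _ ⟨x, hx, rfl⟩
      exact heK x (c.A_le_H hx)
    have hA'inv : Inv c.K A' := by
      rintro k hk _ ⟨x, hx, rfl⟩
      obtain ⟨h, hh, rfl⟩ := hg.ge hk
      exact ⟨h * x * h⁻¹, c.A_inv h hh x hx, by simp [e, mul_assoc]⟩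
    rcases c.swap.imgH_cases hA'inv with h0 | h0
    · exact hA'card ▸ Subgroup.card_le_of_le (c.swap.le_A_of_imgH hA'K h0)
    · have h1 := h0.card_le (by have := c.six; omega)
      have h2 : Nat.card (c.swap.imgH A') ≤ Nat.card c.A := by
        refine (Nat.le_of_dvd Nat.card_pos (Subgroup.card_map_dvd _ _)).trans ?_
        rw [← hA'card, Nat.card_congr (Subgroup.subgroupOfEquivOfLe (show A' ≤ c.swap.H from hA'K)).toEquiv]
      omega
  have h1 := c.card_range_mul_A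
  have h2 : Nat.card c.ρ.range * Nat.card c.B = Nat.card c.K := c.swap.card_range_mul_A
  rw [c.card_conj, ← h2, hAB] at h1
  exact (Nat.eq_of_mul_eq_mul_right Nat.card_pos h1).symm

theorem πT_range_of_top (h : c.π.range = ⊤) : c.πT.range = ⊤ := by
  refine eq_top_iff.mpr fun σ _ => ?_
  obtain ⟨x, hx⟩ : Equiv.Perm.ofSubtype σ ∈ c.π.range := h ▸ Subgroup.mem_top _
  have hK : (x : G) ∈ c.K := (c.stabH x).mp (by
    rw [hx]
    exact Equiv.Perm.ofSubtype_apply_of_not_mem σ (by simp))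
  refine ⟨⟨x, x.2, hK⟩, ?_⟩
  ext y
  rw [coe_πT]
  show c.π x y = _
  rw [hx, Equiv.Perm.ofSubtype_apply_coe]

theorem πT_range_of_alternating (h : c.π.range = alternatingGroup α) :
    c.πT.range ≤ alternatingGroup {x : α // x ≠ c.o} := by
  rintro _ ⟨t, rfl⟩
  have h1 : c.π ⟨t, t.2.1⟩ ∈ alternatingGroup α := h ▸ ⟨_, rfl⟩
  rw [Perm.mem_alternatingGroup] at h1 ⊢
  rw [← h1]
  have hfix : c.π ⟨t, t.2.1⟩ c.o = c.o := (c.stabH _).mpr t.2.2
  exact Perm.sign_subtypePerm _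
    (fun x => ⟨fun h2 e => h2 (by rw [e, hfix]), fun h2 e => h2 ((c.π _).injective (e.trans hfix.symm))⟩)
    fun x hx e => hx (by rw [e, hfix])

/-- The structure theorem. -/
theorem structure_H [Finite G] (hA : c.A ≠ ⊥) {d : ℕ} (hd : Fintype.card α = d) :
    (c.π.range.index = 2 ∧
      Nonempty (c.H ≃* alternatingGroup (Fin d) × alternatingGroup (Fin (d - 1)))) ∨
    (c.π.range = ⊤ ∧ (Nonempty (c.H ≃* Perm (Fin d) × Perm (Fin (d - 1))) ∨
      Nonempty (c.H ≃* eqSign d (d - 1)))) := by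
  have hW := c.W_eq_bot hA
  obtain ⟨φ, hφC, hφT, hφr⟩ := c.exists_second hA hW
  have : Nontrivial α := Fintype.one_lt_card_iff_nontrivial.mp (by have := c.six; omega)
  let ea : α ≃ Fin d := Fintype.equivFinOfCardEq hd
  let eb : {x : α // x ≠ c.o} ≃ Fin (d - 1) :=
    Fintype.equivFinOfCardEq (by have := c.card_beta; omega)
  let f : c.H →* Perm (Fin d) := ea.permCongrHom.toMonoidHom.comp c.π
  let g : c.H →* Perm (Fin (d - 1)) := eb.permCongrHom.toMonoidHom.comp φ
  have hinj : ∀ x, f x = 1 → g x = 1 → x = 1 := by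
    intro x hf hg
    have h1 : c.π x = 1 := ea.permCongrHom.injective (hf.trans (map_one _).symm)
    have h2 : φ x = 1 := eb.permCongrHom.injective (hg.trans (map_one _).symm)
    exact Subtype.ext (Subgroup.mem_bot.mp (c.C_inf_A.le
      ⟨(hφC x).mp h2, c.mem_A.mpr ⟨x.2, h1⟩⟩))
  have hsf : ∀ σ : Perm α, ea.permCongrHom σ ∈ alternatingGroup (Fin d) ↔
      σ ∈ alternatingGroup α := fun σ => by
    rw [Perm.mem_alternatingGroup, Perm.mem_alternatingGroup]
    exact (Perm.sign_permCongr ea σ).congr_left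
  have hsg : ∀ σ : Perm {x : α // x ≠ c.o}, eb.permCongrHom σ ∈ alternatingGroup (Fin (d - 1)) ↔
      σ ∈ alternatingGroup {x : α // x ≠ c.o} := fun σ => by
    rw [Perm.mem_alternatingGroup, Perm.mem_alternatingGroup]
    exact (Perm.sign_permCongr eb σ).congr_left
  have hf : ∀ σ ∈ alternatingGroup (Fin d), ∃ x, f x = σ ∧ g x = 1 := by
    intro σ hσ
    obtain ⟨τ, rfl⟩ := ea.permCongrHom.surjective σ
    obtain ⟨x, hx, hxτ⟩ := c.C_big hA hW ((hsf τ).mp hσ)
    exact ⟨x, congrArg ea.permCongrHom hxτ,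
      (congrArg eb.permCongrHom ((hφC x).mpr hx)).trans (map_one _)⟩
  have hg : ∀ σ ∈ alternatingGroup (Fin (d - 1)), ∃ x, f x = 1 ∧ g x = σ := by
    intro σ hσ
    obtain ⟨τ, rfl⟩ := eb.permCongrHom.surjective σ
    have hAbig : Big (c.swap.imgT c.A) :=
      c.swap.big_imgT ((c.A_inv.mono c.T_le).mono c.T_swap.le) (c.A_le_T.trans c.T_swap.ge)
        fun hle => hA ((eq_bot_iff_forall _).mpr fun a ha => c.A_inf_B hW a ha (hle ha))
    obtain ⟨a, ha, haτ⟩ := hAbig ((hsg τ).mp hσ)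
    obtain ⟨_, hπ⟩ := c.mem_A.mp ha
    refine ⟨⟨a, a.2.2⟩, (congrArg ea.permCongrHom hπ).trans (map_one _), ?_⟩
    exact congrArg eb.permCongrHom ((hφT a).trans haτ)
  obtain ⟨hcase1, hcase2⟩ := mulEquiv_of_pair f g hinj hf hg
  have hcard := c.card_range_eq hA hW
  have hidx : c.ρ.range.index = c.π.range.index := by
    have h1 := c.ρ.range.card_mul_index
    have h2 := c.π.range.card_mul_index
    rw [hcard, ← h2] at h1
    exact Nat.eq_of_mul_eq_mul_left Nat.card_pos h1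
  have h2le : c.π.range.index ≤ 2 := by
    have h1 := Subgroup.index_dvd_of_le c.bigH
    rw [alternatingGroup.index_eq_two] at h1
    exact Nat.le_of_dvd (by norm_num) h1
  have hpos : c.π.range.index ≠ 0 := Subgroup.index_ne_zero_of_finite
  rcases (show c.π.range.index = 1 ∨ c.π.range.index = 2 by omega) with h | h
  · have hπ := Subgroup.index_eq_one.mp h
    have hρ : c.swap.π.range = ⊤ := Subgroup.index_eq_one.mp (hidx.trans h)
    refine Or.inr ⟨hπ, hcase2 ?_ ?_⟩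
    · exact ea.permCongrHom.surjective.comp (MonoidHom.range_eq_top.mp hπ)
    · exact eb.permCongrHom.surjective.comp
        (MonoidHom.range_eq_top.mp (hφr.trans (c.swap.πT_range_of_top hρ)))
  · have hπ := Perm.eq_alternatingGroup_of_index_eq_two h
    have hρ : c.swap.π.range = alternatingGroup α :=
      Perm.eq_alternatingGroup_of_index_eq_two (hidx.trans h)
    refine Or.inl ⟨h, hcase1 (fun x => (hsf _).mpr (hπ ▸ ⟨x, rfl⟩)) fun x => (hsg _).mpr ?_⟩
    exact c.swap.πT_range_of_alternating hρ (hφr ▸ ⟨x, rfl⟩)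

end Ctx

end Cfsg.Agent.UnfaithfulSub
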